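import Mathlib

/-!
Commutators in the symplectic matrix group through the Siegel parabolic subgroup: a symplectic
matrix whose upper left block is `h₁ h₂` with `h₁`, `h₂` acting without fixed points on
symmetric matrices is `a b` with `a`, `b` conjugate to the Levi elements of `h₁`, `h₂`.
-/

set_option autoImplicit false

namespace CfsgLib.SpOre

open Matrix Polynomial

variable {F : Type*} [Field F] {l : Type*} [Fintype l] [DecidableEq l]

/-- `h'` is the inverse of `h` and no two eigenvalues of `h` are inverse to each other. -/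
def FP (h h' : Matrix l l F) : Prop :=
  h * h' = 1 ∧ ∃ p : F[X], aeval h p = 0 ∧ aeval h' p = 1

theorem aeval_intertwine {A B X : Matrix l l F} (h : A * X = X * B) (p : F[X]) :
    aeval A p * X = X * aeval B p := by
  induction p using Polynomial.induction_on with
  | C a => simp [Algebra.algebraMap_eq_smul_one]
  | add p q hp hq => simp [add_mul, mul_add, hp, hq]
  | monomial n a ih =>
    rw [pow_succ, ← mul_assoc, map_mul, map_mul (aeval B), aeval_X, aeval_X, mul_assoc, h,
      ← mul_assoc, ih, mul_assoc]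

theorem aeval_transpose' (A : Matrix l l F) (p : F[X]) : aeval Aᵀ p = (aeval A p)ᵀ := by
  induction p using Polynomial.induction_on with
  | C a => simp [Algebra.algebraMap_eq_smul_one]
  | add p q hp hq => simp [hp, hq]
  | monomial n a ih =>
    have e1 : (C a * X ^ (n + 1) : F[X]) = X * (C a * X ^ n) := by ring
    have e2 : (C a * X ^ (n + 1) : F[X]) = (C a * X ^ n) * X := by ring
    conv_lhs => rw [e1, map_mul, aeval_X, ih]
    conv_rhs => rw [e2, map_mul, aeval_X, transpose_mul]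

theorem FP.mul {h h' : Matrix l l F} (H : FP h h') : h * h' = 1 := H.1

theorem FP.mul' {h h' : Matrix l l F} (H : FP h h') : h' * h = 1 := mul_eq_one_comm.1 H.1

theorem FP.symm {h h' : Matrix l l F} (H : FP h h') : FP h' h := by
  obtain ⟨p, h1, h2⟩ := H.2
  exact ⟨H.mul', 1 - p, by simp [h2], by simp [h1]⟩

theorem FP.transpose {h h' : Matrix l l F} (H : FP h h') : FP hᵀ h'ᵀ := by
  obtain ⟨p, h1, h2⟩ := H.2
  refine ⟨by rw [← transpose_mul, H.mul', transpose_one], p, ?_, ?_⟩
  · rw [aeval_transpose', h1, transpose_zero]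
  · rw [aeval_transpose', h2, transpose_one]

theorem FP.conj {h h' x x' : Matrix l l F} (H : FP h h') (hx : x * x' = 1) :
    FP (x * h * x') (x * h' * x') := by
  have hx' : x' * x = 1 := mul_eq_one_comm.1 hx
  obtain ⟨p, h1, h2⟩ := H.2
  have key : ∀ A : Matrix l l F, aeval (x * A * x') p = x * aeval A p * x' := by
    intro A
    have := aeval_intertwine (A := x * A * x') (B := A) (X := x)
      (by rw [mul_assoc, hx', mul_one]) p
    rw [← this, mul_assoc _ x x', hx, mul_one]
  refine ⟨?_, p, by rw [key, h1]; simp, by rw [key, h2, mul_one, hx]⟩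
  calc x * h * x' * (x * h' * x') = x * (h * (x' * x) * h') * x' := by simp only [mul_assoc]
    _ = 1 := by rw [hx', mul_one, H.mul, mul_one, hx]

theorem FP.eq_zero {h h' : Matrix l l F} (H : FP h h') {X : Matrix l l F}
    (hX : h' * X * h'ᵀ = X) : X = 0 := by
  obtain ⟨p, h1, h2⟩ := H.2
  have h3 : h * X = X * h'ᵀ := by
    conv_lhs => rw [← hX]
    rw [← mul_assoc, ← mul_assoc, H.mul, one_mul]
  have := aeval_intertwine h3 p
  rw [h1, aeval_transpose', h2, zero_mul, transpose_one, mul_one] at this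
  exact this.symm

theorem FP.solve {h h' : Matrix l l F} (H : FP h h') {S : Matrix l l F} (hS : Sᵀ = S) :
    ∃ Y : Matrix l l F, Yᵀ = Y ∧ Y - h' * Y * h'ᵀ = S := by
  let L : Matrix l l F →ₗ[F] Matrix l l F :=
    LinearMap.id - (LinearMap.mulRight F h'ᵀ).comp (LinearMap.mulLeft F h')
  have hL : ∀ Y, L Y = Y - h' * Y * h'ᵀ := fun Y => rfl
  have hinj : Function.Injective L := by
    rw [← LinearMap.ker_eq_bot, LinearMap.ker_eq_bot']
    intro Y hY
    rw [hL, sub_eq_zero] at hY
    exact H.eq_zero hY.symm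
  obtain ⟨Y, hY⟩ := LinearMap.injective_iff_surjective.1 hinj S
  refine ⟨Y, hinj ?_, by rw [← hL, hY]⟩
  rw [hY, ← hS, ← hY, hL, hL, transpose_sub, transpose_mul, transpose_mul, transpose_transpose,
    mul_assoc]

/-- the Levi element `diag(h, h⁻ᵀ)` -/
def lev (h h' : Matrix l l F) (hh : h * h' = 1) : symplecticGroup l F :=
  ⟨fromBlocks h 0 0 h'ᵀ, SymplecticGroup.fromBlocks_mem_iff.2
    ⟨by simp, by simp, by rw [← transpose_mul, mul_eq_one_comm.1 hh]; simp⟩⟩

/-- lower unipotent elements -/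
def low (X : Matrix l l F) (hX : Xᵀ = X) : symplecticGroup l F :=
  ⟨fromBlocks 1 0 X 1, SymplecticGroup.fromBlocks_mem_iff.2 ⟨by simp [hX], by simp, by simp⟩⟩

/-- upper unipotent elements -/
def up (X : Matrix l l F) (hX : Xᵀ = X) : symplecticGroup l F :=
  ⟨fromBlocks 1 X 0 1, SymplecticGroup.fromBlocks_mem_iff.2 ⟨by simp, by simp [hX], by simp⟩⟩

theorem isConj_of_eq {G : Type*} [Group G] {a b c : G} (h : c * a = b * c) : IsConj a b :=
  isConj_iff.2 ⟨c, by rw [h]; group⟩

theorem low_lev_conj {h h' : Matrix l l F} (H : FP h h') {S : Matrix l l F} (hS : Sᵀ = S) :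
    IsConj (lev h h' H.mul) (low S hS * lev h h' H.mul) := by
  obtain ⟨Y, hY, hYS⟩ := H.transpose.solve hS
  refine isConj_of_eq (c := low Y hY) (Subtype.ext ?_)
  simp only [Submonoid.coe_mul, low, lev, fromBlocks_multiply]
  rw [transpose_transpose] at hYS
  simp only [Matrix.mul_zero, Matrix.zero_mul, Matrix.mul_one, Matrix.one_mul, add_zero, zero_add]
  congr 1
  rw [← hYS, sub_mul, mul_assoc _ h' h, H.mul', mul_one]
  abel

theorem lev_up_conj {h h' : Matrix l l F} (H : FP h h') {S : Matrix l l F} (hS : Sᵀ = S) :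
    IsConj (lev h h' H.mul * up S hS) (lev h h' H.mul) := by
  obtain ⟨Y, hY, hYS⟩ := H.solve hS
  refine isConj_of_eq (c := up Y hY) (Subtype.ext ?_)
  simp only [Submonoid.coe_mul, up, lev, fromBlocks_multiply]
  simp only [Matrix.mul_zero, Matrix.zero_mul, Matrix.mul_one, Matrix.one_mul, add_zero, zero_add]
  congr 1
  rw [← hYS, mul_sub, ← mul_assoc, ← mul_assoc, H.mul, one_mul]
  abel

theorem gauss (g : symplecticGroup l F) {A A' : Matrix l l F} (hA : g.1.toBlocks₁₁ = A)
    (hAA : A * A' = 1) :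
    ∃ (S T : Matrix l l F) (hS : Sᵀ = S) (hT : Tᵀ = T), g = low S hS * lev A A' hAA * up T hT := by
  obtain ⟨g, hg⟩ := g
  obtain ⟨B, C, D, rfl⟩ : ∃ B C D, g = fromBlocks A B C D :=
    ⟨_, _, _, by rw [← hA]; exact (fromBlocks_toBlocks g).symm⟩
  have hA'A : A' * A = 1 := mul_eq_one_comm.1 hAA
  have ht1 : A'ᵀ * Aᵀ = 1 := by rw [← transpose_mul, hAA, transpose_one]
  have ht2 : Aᵀ * A'ᵀ = 1 := by rw [← transpose_mul, hA'A, transpose_one]
  obtain ⟨h1, -, h3⟩ := SymplecticGroup.fromBlocks_mem_iff.1 hg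
  have hg' := SymplecticGroup.transpose_mem hg
  rw [fromBlocks_transpose] at hg'
  obtain ⟨h4, -, -⟩ := SymplecticGroup.fromBlocks_mem_iff.1 hg'
  simp only [transpose_transpose] at h4
  have hS : (C * A')ᵀ = C * A' := by
    calc (C * A')ᵀ = A'ᵀ * (Cᵀ * A) * A' := by
          rw [transpose_mul, mul_assoc, mul_assoc, hAA, mul_one]
      _ = C * A' := by rw [← h1, ← mul_assoc, ht1, one_mul]
  have hT : (A' * B)ᵀ = A' * B := by
    calc (A' * B)ᵀ = A' * (A * Bᵀ) * A'ᵀ := by
          rw [transpose_mul, ← mul_assoc A', hA'A, one_mul]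
      _ = A' * B := by rw [h4, mul_assoc, mul_assoc, ht2, mul_one]
  refine ⟨C * A', A' * B, hS, hT, Subtype.ext ?_⟩
  simp only [Submonoid.coe_mul, low, up, lev, fromBlocks_multiply]
  simp only [Matrix.mul_zero, Matrix.zero_mul, Matrix.mul_one, Matrix.one_mul, add_zero, zero_add]
  have e1 : C * A' * A = C := by rw [mul_assoc, hA'A, mul_one]
  have e2 : A * (A' * B) = B := by rw [← mul_assoc, hAA, one_mul]
  have e3 : C * (A' * B) + A'ᵀ = D := by
    calc C * (A' * B) + A'ᵀ = A'ᵀ * (Cᵀ * B + 1) := by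
          rw [← mul_assoc, ← hS, transpose_mul, mul_add, mul_one, mul_assoc]
      _ = D := by rw [← h3, add_sub_cancel, ← mul_assoc, ht1, one_mul]
  rw [e1, e2, e3]

theorem lev_mul {a a' b b' : Matrix l l F} (ha : a * a' = 1) (hb : b * b' = 1)
    (hab : a * b * (b' * a') = 1) : lev (a * b) (b' * a') hab = lev a a' ha * lev b b' hb := by
  apply Subtype.ext
  simp [lev, fromBlocks_multiply]

theorem lev_inv {a a' : Matrix l l F} (ha : a * a' = 1) :
    (lev a a' ha)⁻¹ = lev a' a (mul_eq_one_comm.1 ha) := by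
  apply inv_eq_of_mul_eq_one_right
  apply Subtype.ext
  simp only [Submonoid.coe_mul, lev, fromBlocks_multiply]
  simp [ha, ← transpose_mul]

theorem comm_of_conj {G : Type*} [Group G] {g a b : G} (hg : g = a * b) (h : IsConj b a⁻¹) :
    ∃ x y : G, g = x * y * x⁻¹ * y⁻¹ := by
  obtain ⟨c, hc⟩ := isConj_iff.1 h.symm
  exact ⟨a, c, by rw [hg, ← hc]; group⟩

theorem comm_block (g : symplecticGroup l F) {h₁ h₁' h₂ h₂' : Matrix l l F} (H₁ : FP h₁ h₁')
    (H₂ : FP h₂ h₂') (hA : g.1.toBlocks₁₁ = h₁ * h₂)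
    (hc : IsConj (lev h₂ h₂' H₂.mul) (lev h₁ h₁' H₁.mul)⁻¹) :
    ∃ x y : symplecticGroup l F, g = x * y * x⁻¹ * y⁻¹ := by
  have hAA : h₁ * h₂ * (h₂' * h₁') = 1 := by
    rw [mul_assoc, ← mul_assoc h₂, H₂.mul, one_mul, H₁.mul]
  obtain ⟨S, T, hS, hT, hg⟩ := gauss g hA hAA
  rw [lev_mul H₁.mul H₂.mul] at hg
  refine comm_of_conj (a := low S hS * lev h₁ h₁' H₁.mul) (b := lev h₂ h₂' H₂.mul * up T hT)
    (by rw [hg]; simp only [mul_assoc]) ?_
  refine ((lev_up_conj H₂ hT).trans hc).trans ?_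
  obtain ⟨c, hc'⟩ := isConj_iff.1 (low_lev_conj H₁ hS)
  exact isConj_iff.2 ⟨c, by rw [← hc']; group⟩

theorem lev_conj {h h' x x' : Matrix l l F} (hh : h * h' = 1) (hx : x * x' = 1)
    (h2 : x * h * x' * (x * h' * x') = 1) :
    IsConj (lev (x * h * x') (x * h' * x') h2) (lev h h' hh) := by
  have hx' : x' * x = 1 := mul_eq_one_comm.1 hx
  refine (isConj_of_eq (c := lev x x' hx) (Subtype.ext ?_)).symm
  simp only [Submonoid.coe_mul, lev, fromBlocks_multiply]
  simp only [Matrix.mul_zero, Matrix.zero_mul, add_zero, zero_add, ← transpose_mul]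
  rw [mul_assoc, hx', mul_one, ← mul_assoc, ← mul_assoc, hx', one_mul]

/-- upper left block `h · x h⁻¹ x⁻¹` -/
theorem comm_neg (g : symplecticGroup l F) {h h' x x' : Matrix l l F} (H : FP h h')
    (hx : x * x' = 1) (hA : g.1.toBlocks₁₁ = h * (x * h' * x')) :
    ∃ x y : symplecticGroup l F, g = x * y * x⁻¹ * y⁻¹ := by
  refine comm_block g H (H.symm.conj hx) hA ?_
  rw [lev_inv]
  exact lev_conj _ hx _

/-- upper left block `h · x hᵀ x⁻¹` -/
theorem comm_pos (g : symplecticGroup l F) {h h' x x' : Matrix l l F} (H : FP h h')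
    (hx : x * x' = 1) (hA : g.1.toBlocks₁₁ = h * (x * hᵀ * x')) :
    ∃ x y : symplecticGroup l F, g = x * y * x⁻¹ * y⁻¹ := by
  refine comm_block g H (H.transpose.conj hx) hA ?_
  rw [lev_inv]
  refine (lev_conj H.transpose.mul hx _).trans ?_
  refine isConj_of_eq (c := SymplecticGroup.symJ l F) (Subtype.ext ?_)
  simp [lev, J, fromBlocks_multiply]

/-- `-1` is a commutator. -/
theorem comm_neg_one [Finite F] (g : symplecticGroup l F) (hg : g.1 = -1) :
    ∃ x y : symplecticGroup l F, g = x * y * x⁻¹ * y⁻¹ := by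
  obtain ⟨p, hp⟩ := CharP.exists F
  haveI : NeZero p := ⟨CharP.char_ne_zero_of_finite F p⟩
  obtain ⟨a, b, hab⟩ := CharP.sq_add_sq F p (-1)
  push_cast at hab
  let y : symplecticGroup l F :=
    ⟨fromBlocks ((a : F) • 1) ((b : F) • 1) ((b : F) • 1) ((-a : F) • 1),
      SymplecticGroup.fromBlocks_mem_iff.2 ⟨by simp [smul_smul, mul_comm], by
        simp [smul_smul, mul_comm], by
        simp only [transpose_smul, transpose_one, smul_mul_smul_comm, mul_one, ← sub_smul]
        rw [show (a : F) * -a - b * b = 1 by linear_combination -hab, one_smul]⟩⟩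
  refine ⟨SymplecticGroup.symJ l F, y, ?_⟩
  rw [eq_mul_inv_iff_mul_eq, eq_mul_inv_iff_mul_eq]
  apply Subtype.ext
  simp only [Submonoid.coe_mul, hg, y, SymplecticGroup.coe_J, J, Matrix.neg_mul, Matrix.one_mul,
    fromBlocks_multiply, fromBlocks_neg]
  simp

end CfsgLib.SpOre
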