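import Mathlib
import Cfsg.Agent.Lib.SpOre.Mat

/-!
Companion matrices of polynomials prime to their reciprocal, and the three factorizations
`1`, `-1`, `diag(-1, …, -1, 1)` used for commutators in symplectic groups.
-/

set_option autoImplicit false

namespace CfsgLib.SpOre

open Matrix Polynomial

variable {F : Type*} [Field F]

/-- there is a monic polynomial of degree `k`, prime to `X` and to its reciprocal -/
def GP (F : Type*) [Field F] (k : ℕ) : Prop :=
  ∃ f : F[X], f.Monic ∧ f.natDegree = k ∧ f.coeff 0 ≠ 0 ∧ IsCoprime f f.reverse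

theorem reverse_pow' (f : F[X]) (n : ℕ) : (f ^ n).reverse = f.reverse ^ n := by
  induction n with
  | zero => simpa using reverse_C (1 : F)
  | succ n ih => rw [pow_succ, reverse_mul_of_domain, ih, pow_succ]

theorem gp_two {f g : F[X]} (hf : f.Monic) (hg : g.Monic) (f0 : f.coeff 0 ≠ 0)
    (g0 : g.coeff 0 ≠ 0) (h1 : IsCoprime f f.reverse) (h2 : IsCoprime f g.reverse)
    (h3 : IsCoprime g f.reverse) (h4 : IsCoprime g g.reverse) (a b : ℕ) :
    GP F (a * f.natDegree + b * g.natDegree) := by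
  refine ⟨f ^ a * g ^ b, (hf.pow a).mul (hg.pow b), ?_, ?_, ?_⟩
  · rw [(hf.pow a).natDegree_mul (hg.pow b), hf.natDegree_pow, hg.natDegree_pow]
  · rw [mul_coeff_zero, coeff_zero_eq_eval_zero, coeff_zero_eq_eval_zero, eval_pow, eval_pow,
      ← coeff_zero_eq_eval_zero, ← coeff_zero_eq_eval_zero]
    exact mul_ne_zero (pow_ne_zero _ f0) (pow_ne_zero _ g0)
  · rw [reverse_mul_of_domain, reverse_pow', reverse_pow']
    exact (h1.pow.mul_right h2.pow).mul_left (h3.pow.mul_right h4.pow)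

theorem gp_big {α : F} (h0 : α ≠ 0) (h1 : α ^ 2 ≠ 1) (k : ℕ) : GP F k := by
  have hd : (X - C α : F[X]).natDegree = 1 := natDegree_X_sub_C α
  have hr : (X - C α : F[X]).reverse = 1 - C α * X := by
    rw [reverse, hd, reflect_sub, reflect_one_X, reflect_C, pow_one]
  have hc : IsCoprime (X - C α : F[X]) (X - C α).reverse := by
    rw [hr]
    have h2 : (1 - α ^ 2) ≠ 0 := sub_ne_zero.2 h1.symm
    have h3 : (C (1 - α ^ 2)⁻¹ : F[X]) * (1 - C α ^ 2) = 1 := by
      rw [← C_pow, ← C_1, ← C_sub, ← C_mul, inv_mul_cancel₀ h2]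
    exact ⟨C (1 - α ^ 2)⁻¹ * C α, C (1 - α ^ 2)⁻¹, by linear_combination h3⟩
  have h := gp_two (monic_X_sub_C α) (monic_X_sub_C α) (by simpa using h0) (by simpa using h0)
    hc hc hc hc k 0
  simpa [hd] using h

theorem trinomial {a b : F} (n k : ℕ) (hk : 0 < k) (hkn : k < n) (hb : b ≠ 0) :
    (X ^ n + C a * X ^ k + C b : F[X]).Monic ∧ (X ^ n + C a * X ^ k + C b : F[X]).natDegree = n ∧
      (X ^ n + C a * X ^ k + C b : F[X]).coeff 0 ≠ 0 ∧
      (X ^ n + C a * X ^ k + C b : F[X]).reverse = 1 + C a * X ^ (n - k) + C b * X ^ n := by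
  have hlt : (C a * X ^ k + C b : F[X]).degree < n := by
    refine lt_of_le_of_lt (degree_add_le _ _) (max_lt ?_ ?_)
    · exact lt_of_le_of_lt (degree_C_mul_X_pow_le _ _) (by exact_mod_cast hkn)
    · exact lt_of_le_of_lt degree_C_le (by exact_mod_cast hk.trans hkn)
  have hd : (X ^ n + C a * X ^ k + C b : F[X]).natDegree = n := by
    rw [add_assoc, natDegree_add_eq_left_of_degree_lt (by rwa [degree_X_pow]), natDegree_X_pow]
  refine ⟨by rw [add_assoc]; exact monic_X_pow_add hlt, hd, ?_, ?_⟩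
  · simp [coeff_X_pow, hk.ne, (hk.trans hkn).ne, hb]
  · rw [reverse, hd, reflect_add, reflect_add, reflect_monomial, reflect_C_mul_X_pow, reflect_C,
      revAt_le le_rfl, revAt_le hkn.le, Nat.sub_self, pow_zero]

theorem gp_char_two (h2 : (2 : F) = 0) {k : ℕ} (hk : 3 ≤ k) : GP F k := by
  have hp : (2 : F[X]) = 0 := by rw [← map_ofNat C 2, h2, C_0]
  obtain ⟨a1, a2, a3, a4⟩ := trinomial (F := F) (a := 1) (b := 1) 3 1 (by omega) (by omega) one_ne_zero
  obtain ⟨b1, b2, b3, b4⟩ := trinomial (F := F) (a := 1) (b := 1) 4 1 (by omega) (by omega) one_ne_zero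
  obtain ⟨c1, c2, c3, c4⟩ := trinomial (F := F) (a := 1) (b := 1) 5 2 (by omega) (by omega) one_ne_zero
  have H4 := gp_two a1 b1 a3 b3
    (by rw [a4, C_1]; exact ⟨X, 1 + X, by linear_combination (X + X ^ 2 + X ^ 3 + X ^ 4) * hp⟩)
    (by rw [b4, C_1]; exact ⟨X + X ^ 3, 1 + X + X ^ 2, by
      linear_combination (X + X ^ 2 + X ^ 3 + 2 * X ^ 4 + X ^ 5 + X ^ 6) * hp⟩)
    (by rw [a4, C_1]; exact ⟨1 + X, X ^ 2, by linear_combination (X + X ^ 2 + X ^ 4 + X ^ 5) * hp⟩)
    (by rw [b4, C_1]; exact ⟨1 + X + X ^ 3, X ^ 2 + X ^ 3, by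
      linear_combination (X + X ^ 2 + X ^ 3 + X ^ 4 + X ^ 5 + X ^ 6 + X ^ 7) * hp⟩)
  have H5 := gp_two a1 c1 a3 c3
    (by rw [a4, C_1]; exact ⟨X, 1 + X, by linear_combination (X + X ^ 2 + X ^ 3 + X ^ 4) * hp⟩)
    (by rw [c4, C_1]; exact ⟨1 + X ^ 3, X, by linear_combination (X + X ^ 3 + X ^ 4 + X ^ 6) * hp⟩)
    (by rw [a4, C_1]; exact ⟨X, 1 + X + X ^ 2 + X ^ 3, by
      linear_combination (X + X ^ 2 + 2 * X ^ 3 + X ^ 4 + X ^ 5 + X ^ 6) * hp⟩)
    (by rw [c4, C_1]; exact ⟨X + X ^ 2, 1 + X + X ^ 2, by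
      linear_combination (X + X ^ 2 + X ^ 3 + X ^ 4 + X ^ 5 + X ^ 6 + X ^ 7) * hp⟩)
  rw [a2, b2] at H4
  rw [a2, c2] at H5
  rcases (by omega : k % 3 = 0 ∨ k % 3 = 1 ∨ k % 3 = 2) with h | h | h
  · have := H4 (k / 3) 0
    rwa [show k / 3 * 3 + 0 * 4 = k by omega] at this
  · have := H4 ((k - 4) / 3) 1
    rwa [show (k - 4) / 3 * 3 + 1 * 4 = k by omega] at this
  · have := H5 ((k - 5) / 3) 1
    rwa [show (k - 5) / 3 * 3 + 1 * 5 = k by omega] at this

theorem gp_char_three (h3 : (3 : F) = 0) {k : ℕ} (hk : 2 ≤ k) : GP F k := by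
  have hp : (3 : F[X]) = 0 := by rw [← map_ofNat C 3, h3, C_0]
  obtain ⟨a1, a2, a3, a4⟩ := trinomial (F := F) (a := -1) (b := -1) 2 1 (by omega) (by omega) (by simp)
  obtain ⟨b1, b2, b3, b4⟩ := trinomial (F := F) (a := -1) (b := -1) 3 1 (by omega) (by omega) (by simp)
  have H := gp_two a1 b1 a3 b3
    (by rw [a4, C_neg, C_1]; exact ⟨1 + X, 2 + X, by linear_combination (-X - X ^ 2) * hp⟩)
    (by rw [b4, C_neg, C_1]; exact ⟨1 + 2 * X, 2, by linear_combination (-X - X ^ 2) * hp⟩)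
    (by rw [a4, C_neg, C_1]; exact ⟨X, 1 + 2 * X + X ^ 2, by
      linear_combination (-X ^ 2 - X ^ 3) * hp⟩)
    (by rw [b4, C_neg, C_1]; exact ⟨2 * X, 1 + 2 * X, by linear_combination (-X ^ 2 - X ^ 3) * hp⟩)
  rw [a2, b2] at H
  rcases (by omega : k % 2 = 0 ∨ k % 2 = 1) with h | h
  · have := H (k / 2) 0
    rwa [show k / 2 * 2 + 0 * 3 = k by omega] at this
  · have := H ((k - 3) / 2) 1
    rwa [show (k - 3) / 2 * 2 + 1 * 3 = k by omega] at this

/-- the companion matrix of a good polynomial -/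
theorem GP.companion {k : ℕ} (h : GP F k) :
    ∃ (c : ℕ → F) (h h' : Matrix (Fin k) (Fin k) F), c 0 ≠ 0 ∧ FP h h' ∧
      ∀ i j : Fin k, h i j = if (j : ℕ) + 1 = k then c i else if (i : ℕ) = j + 1 then 1 else 0 := by
  obtain ⟨f, hm, rfl, h0, u, w, huw⟩ := h
  let pb := AdjoinRoot.powerBasis hm.ne_zero
  let x : AdjoinRoot f := AdjoinRoot.root f
  have hx : aeval x f = 0 := by rw [AdjoinRoot.aeval_eq, AdjoinRoot.mk_self]
  let y : AdjoinRoot f := -(f.coeff 0)⁻¹ • aeval x f.divX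
  have hxy : x * y = 1 := by
    have h1 := congrArg (aeval x) (X_mul_divX_add f)
    rw [map_add, map_mul, aeval_X, aeval_C, hx, Algebra.algebraMap_eq_smul_one] at h1
    have h2 : x * aeval x f.divX = -(f.coeff 0 • 1) := eq_neg_of_add_eq_zero_left h1
    rw [mul_smul_comm, h2, smul_neg, smul_smul, neg_mul, inv_mul_cancel₀ h0]
    simp
  letI : Invertible x := ⟨y, by rw [mul_comm, hxy], hxy⟩
  have hy : aeval y f.reverse = 0 :=
    (eval₂_reverse_eq_zero_iff (algebraMap F _) x f).2 hx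
  let φ : AdjoinRoot f →ₐ[F] Matrix (Fin f.natDegree) (Fin f.natDegree) F :=
    Algebra.leftMulMatrix (R := F) (S := AdjoinRoot f) pb.basis
  -- `p` vanishes at `x` and takes the value `1` at `y`
  obtain ⟨p, hp1, hp2⟩ : ∃ p : F[X], aeval x p = 0 ∧ aeval y p = 1 := by
    refine ⟨u * f, by rw [map_mul, hx, mul_zero], ?_⟩
    have := congrArg (aeval y) huw
    rwa [map_add, map_mul (aeval y) w, hy, mul_zero, add_zero, map_one] at this
  refine ⟨fun i => -f.coeff i, φ x, φ y, neg_ne_zero.2 h0,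
    ⟨by rw [← map_mul, hxy, map_one], p, ?_, ?_⟩, fun i j => ?_⟩
  · rw [aeval_algHom_apply, hp1, map_zero]
  · rw [aeval_algHom_apply, hp2, map_one]
  · have h1 := PowerBasis.leftMulMatrix pb
    rw [PowerBasis.minpolyGen_eq, AdjoinRoot.minpoly_powerBasis_gen_of_monic hm] at h1
    exact congrFun (congrFun h1 i) j

/-- `diag(-1, …, -1, 1)` -/
def negRefl (F : Type*) [Field F] (n : ℕ) : Matrix (Fin (n + 1)) (Fin (n + 1)) F :=
  diagonal fun i => if i = Fin.last n then 1 else -1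

theorem GP.negRefl (h2 : (2 : F) ≠ 0) {n : ℕ} (hn : Even n) (h : GP F (n + 1)) :
    ∃ h h' x x' : Matrix (Fin (n + 1)) (Fin (n + 1)) F, FP h h' ∧ x * x' = 1 ∧
      negRefl F n = h * (x * h' * x') := by
  obtain ⟨c, A, A', c0, H, hA⟩ := h.companion
  let D : Matrix (Fin (n + 1)) (Fin (n + 1)) F := diagonal fun i => (-1) ^ (i : ℕ)
  have hD : D * D = 1 := by
    rw [diagonal_mul_diagonal, ← diagonal_one]
    congr 1
    ext i
    rw [← mul_pow]; simp
  let e : Fin (n + 1) → F := Pi.single (Fin.last n) 1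
  let col : Fin (n + 1) → F := fun i => ((-1) ^ (i : ℕ) + 1) * c i
  have h1 : D * A * D = -A + vecMulVec col e := by
    ext i j
    rw [mul_diagonal, diagonal_mul, Matrix.add_apply, Matrix.neg_apply, vecMulVec_apply, hA]
    by_cases hj : j = Fin.last n
    · subst hj
      simp only [Fin.val_last, if_true, e, Pi.single_eq_same, col, hn.neg_one_pow]
      ring
    · have hj' : ¬ (j : ℕ) + 1 = n + 1 := fun h => hj (Fin.ext (by simpa using h))
      rw [if_neg hj']
      simp only [e, Pi.single_eq_of_ne hj, mul_zero, add_zero]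
      split_ifs with h
      · rw [h, pow_succ, mul_one, mul_comm ((-1 : F) ^ (j : ℕ)), mul_assoc, ← mul_pow]; simp
      · simp
  let y : Fin (n + 1) → F := A' *ᵥ col
  have hy : y (Fin.last n) = 2 := by
    have h3 : A *ᵥ y = col := by rw [mulVec_mulVec, H.mul, one_mulVec]
    have h4 := congrFun h3 0
    rw [mulVec, dotProduct, Finset.sum_eq_single (Fin.last n)] at h4
    · rw [hA] at h4
      simp only [Fin.val_last, if_true, col, Fin.val_zero, pow_zero] at h4
      exact mul_left_cancel₀ c0 (by linear_combination h4)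
    · intro j _ hj
      have hj' : ¬ (j : ℕ) + 1 = n + 1 := fun h => hj (Fin.ext (by simpa using h))
      rw [hA, if_neg hj', if_neg (by simp), zero_mul]
    · simp
  have hN : A' * (D * A * D) = -1 + vecMulVec y e := by
    rw [h1, mul_add, mul_neg, H.mul', mul_vecMulVec]
  let z : Fin (n + 1) → F := (2 : F)⁻¹ • y - e
  have hz : e ⬝ᵥ z = 0 := by
    simp [e, z, hy, h2]
  have hey : e ⬝ᵥ e = 1 := by simp [e]
  have hyz : y = (2 : F) • z + (2 : F) • e := by
    simp [z, smul_sub, smul_smul, h2]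
  let P : Matrix (Fin (n + 1)) (Fin (n + 1)) F := 1 + vecMulVec z e
  let P' : Matrix (Fin (n + 1)) (Fin (n + 1)) F := 1 - vecMulVec z e
  have hzz : vecMulVec z e * vecMulVec z e = 0 := by
    rw [vecMulVec_mul_vecMulVec, hz, zero_smul, vecMulVec_zero]
  have hPP : P' * P = 1 := by
    simp only [P, P', sub_mul, mul_add, one_mul, mul_one, hzz]; abel
  have hPP' : P * P' = 1 := mul_eq_one_comm.1 hPP
  have hR : SpOre.negRefl F n = -1 + (2 : F) • vecMulVec e e := by
    ext i j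
    simp only [SpOre.negRefl, diagonal_apply, Matrix.add_apply, Matrix.neg_apply, one_apply,
      Matrix.smul_apply, vecMulVec_apply, e, Pi.single_apply, smul_eq_mul]
    split_ifs <;> first | ring1 | (exfalso; simp_all)
  have hconj : SpOre.negRefl F n = P' * (A' * (D * A * D)) * P := by
    have e1 : vecMulVec z e * vecMulVec e e = vecMulVec z e := by
      rw [vecMulVec_mul_vecMulVec, hey, one_smul]
    have e2 : vecMulVec e e * vecMulVec z e = 0 := by
      rw [vecMulVec_mul_vecMulVec, hz, zero_smul, vecMulVec_zero]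
    rw [hN, hR, hyz, add_vecMulVec, smul_vecMulVec, smul_vecMulVec]
    simp only [P, P', mul_add, add_mul, sub_mul, mul_neg, neg_mul, one_mul, mul_one, mul_smul_comm,
      smul_mul_assoc, hzz, e1, e2, smul_zero, zero_mul, neg_zero]
    module
  refine ⟨P' * A' * P, P' * A * P, P' * D * P, P' * D * P, H.symm.conj hPP, ?_, ?_⟩
  · calc P' * D * P * (P' * D * P) = P' * (D * (P * P') * D) * P := by simp only [mul_assoc]
      _ = 1 := by rw [hPP', mul_one, hD, mul_one, hPP]
  · rw [hconj]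
    calc P' * (A' * (D * A * D)) * P
        = P' * A' * (P * P') * D * (P * P') * A * (P * P') * D * P := by
          simp only [hPP', mul_one, mul_assoc]
      _ = _ := by simp only [mul_assoc]

/-- `-1` in even dimension as `h · x hᵀ x⁻¹` (odd characteristic) -/
theorem negOne_even (h2 : (2 : F) ≠ 0) (o : Type*) [Fintype o] [DecidableEq o] :
    ∃ h h' x x' : Matrix (Fin 2 × o) (Fin 2 × o) F, FP h h' ∧ x * x' = 1 ∧
      (-1 : Matrix (Fin 2 × o) (Fin 2 × o) F) = h * (x * hᵀ * x') := by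
  let β : Matrix (Fin 2) (Fin 2) F →+* Matrix (Fin 2 × o) (Fin 2 × o) F :=
    (blockDiagonalRingHom (Fin 2) o F).comp (Pi.constRingHom o _)
  have hβ : ∀ A, β A = blockDiagonal fun _ => A := fun _ => rfl
  have hβt : ∀ A, (β A)ᵀ = β Aᵀ := fun A => by rw [hβ, hβ, blockDiagonal_transpose]
  have hβs : ∀ (c : F) A, β (c • A) = c • β A := fun c A => by
    rw [hβ, hβ, ← blockDiagonal_smul]; rfl
  let a : Matrix (Fin 2) (Fin 2) F := !![0, 1; 1, 1]
  let a' : Matrix (Fin 2) (Fin 2) F := !![-1, 1; 1, 0]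
  let x : Matrix (Fin 2) (Fin 2) F := !![0, 1; -1, 0]
  let x' : Matrix (Fin 2) (Fin 2) F := !![0, -1; 1, 0]
  have ev : ∀ A : Matrix (Fin 2) (Fin 2) F,
      aeval (β A) (C (-(2 : F)⁻¹) * (X + 1) * (X * X - X - 1)) =
        β ((-(2 : F)⁻¹) • ((A + 1) * (A * A - A - 1))) := by
    intro A
    simp only [map_mul, map_sub, map_add, aeval_X, aeval_C, map_one, hβs, Algebra.algebraMap_eq_smul_one,
      smul_mul_assoc, one_mul]
  refine ⟨β a, β a', β x, β x', ⟨?_, C (-(2 : F)⁻¹) * (X + 1) * (X * X - X - 1), ?_, ?_⟩, ?_, ?_⟩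
  · rw [← map_mul, ← map_one β]; congr 1
    ext i j; fin_cases i <;> fin_cases j <;> simp [a, a']
  · rw [ev, ← map_zero β]; congr 1
    ext i j; fin_cases i <;> fin_cases j <;> simp [a, one_fin_two]
  · rw [ev, ← map_one β]; congr 1
    ext i j; fin_cases i <;> fin_cases j <;> simp [a', one_fin_two] <;> field_simp <;> ring
  · rw [← map_mul, ← map_one β]; congr 1
    ext i j; fin_cases i <;> fin_cases j <;> simp [x, x']
  · rw [hβt, ← map_mul, ← map_mul, ← map_mul, ← map_one β, ← map_neg]; congr 1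
    ext i j; fin_cases i <;> fin_cases j <;> simp [a, x, x', Matrix.mul_apply, vecMul, dotProduct]

end CfsgLib.SpOre
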