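import Mathlib
import Cfsg.Agent.Lib.SpOre.Poly

/-!
Symplectic geometry relative to a non-degenerate subspace `M`: Lagrangians, coordinates, and
the predicate `Comm B g M` (`g` is on `M` a commutator of isometries supported on `M`).
-/

set_option autoImplicit false

namespace CfsgLib.SpOre

open Matrix Module Submodule

variable {F : Type*} [Field F] {V : Type*} [AddCommGroup V] [Module F V]

/-- the isometry group of a bilinear form -/
def isom (B : LinearMap.BilinForm F V) : Subgroup (V ≃ₗ[F] V) where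
  carrier := {e | ∀ x y, B (e x) (e y) = B x y}
  mul_mem' := fun {a b} ha hb x y => by
    rw [LinearEquiv.mul_apply, LinearEquiv.mul_apply, ha, hb]
  one_mem' := fun _ _ => rfl
  inv_mem' := fun {a} ha x y => by
    have := ha (a⁻¹ x) (a⁻¹ y)
    rw [← LinearEquiv.mul_apply, ← LinearEquiv.mul_apply, mul_inv_cancel] at this
    exact this.symm

/-- isometries fixing `M^⊥` pointwise -/
def supp (B : LinearMap.BilinForm F V) (M : Submodule F V) : Subgroup (V ≃ₗ[F] V) where
  carrier := {e | e ∈ isom B ∧ ∀ x ∈ B.orthogonal M, e x = x}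
  mul_mem' := fun {a b} ha hb => ⟨mul_mem ha.1 hb.1, fun x hx => by
    rw [LinearEquiv.mul_apply, hb.2 x hx, ha.2 x hx]⟩
  one_mem' := ⟨one_mem _, fun _ _ => rfl⟩
  inv_mem' := fun {a} ha => ⟨inv_mem ha.1, fun x hx => by
    conv_lhs => rw [← ha.2 x hx]
    rw [← LinearEquiv.mul_apply, inv_mul_cancel]; rfl⟩

/-- non-degenerate subspace -/
def Nd (B : LinearMap.BilinForm F V) (M : Submodule F V) : Prop := Disjoint M (B.orthogonal M)

/-- totally isotropic subspace -/
def Iso (B : LinearMap.BilinForm F V) (W : Submodule F V) : Prop := ∀ x ∈ W, ∀ y ∈ W, B x y = 0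

/-- `g` is on `M` a commutator of two isometries supported on `M` -/
def Comm (B : LinearMap.BilinForm F V) (g : V ≃ₗ[F] V) (M : Submodule F V) : Prop :=
  ∃ a ∈ supp B M, ∃ b ∈ supp B M, ∀ x ∈ M, g x = (a * b * a⁻¹ * b⁻¹) x

/-- alternating and non-degenerate -/
structure Sy (B : LinearMap.BilinForm F V) : Prop where
  alt : B.IsAlt
  nd : B.Nondegenerate

variable {B : LinearMap.BilinForm F V}

theorem Sy.neg (hB : Sy B) (x y : V) : B x y = -B y x := (hB.alt.neg_eq y x).symm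

theorem Sy.refl (hB : Sy B) : B.IsRefl := hB.alt.isRefl

theorem Nd.eq_zero {M : Submodule F V} (h : Nd B M) {x : V} (hx : x ∈ M)
    (h0 : ∀ y ∈ M, B y x = 0) : x = 0 :=
  (Submodule.disjoint_def.1 h) x hx h0

theorem orth_sup (M N : Submodule F V) :
    B.orthogonal (M ⊔ N) = B.orthogonal M ⊓ B.orthogonal N := by
  ext x
  simp only [LinearMap.BilinForm.mem_orthogonal_iff, Submodule.mem_inf]
  constructor
  · exact fun h => ⟨fun n hn => h n (mem_sup_left hn), fun n hn => h n (mem_sup_right hn)⟩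
  · rintro ⟨h1, h2⟩ n hn
    obtain ⟨a, ha, b, hb, rfl⟩ := Submodule.mem_sup.1 hn
    simp [h1 a ha, h2 b hb]

theorem Sy.orth_symm (hB : Sy B) {M N : Submodule F V} (h : N ≤ B.orthogonal M) :
    M ≤ B.orthogonal N := fun x hx y hy => hB.refl _ _ (h hy x hx)

theorem Nd.disjoint {M N : Submodule F V} (h : Nd B M) (hMN : N ≤ B.orthogonal M) :
    Disjoint M N := h.mono_right hMN

theorem Nd.sup (hB : Sy B) {M N : Submodule F V} (hM : Nd B M) (hN : Nd B N)
    (hMN : N ≤ B.orthogonal M) : Nd B (M ⊔ N) := by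
  rw [Nd, Submodule.disjoint_def]
  intro x hx h0
  obtain ⟨a, ha, b, hb, rfl⟩ := Submodule.mem_sup.1 hx
  have h1 : a = 0 := hM.eq_zero ha fun y hy => by
    have := h0 y (mem_sup_left hy)
    rwa [map_add, hMN hb y hy, add_zero] at this
  have h2 : b = 0 := hN.eq_zero hb fun y hy => by
    have := h0 y (mem_sup_right hy)
    rwa [map_add, hB.orth_symm hMN ha y hy, zero_add] at this
  rw [h1, h2, add_zero]

theorem Comm.of_id {g : V ≃ₗ[F] V} {M : Submodule F V} (h : ∀ x ∈ M, g x = x) : Comm B g M :=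
  ⟨1, one_mem _, 1, one_mem _, fun x hx => by simp [h x hx]⟩

variable [FiniteDimensional F V]

theorem Nd.isCompl (hB : Sy B) {M : Submodule F V} (h : Nd B M) : IsCompl M (B.orthogonal M) :=
  (LinearMap.BilinForm.isCompl_orthogonal_iff_disjoint hB.refl).2 h

theorem Nd.decomp (hB : Sy B) {M : Submodule F V} (h : Nd B M) (x : V) :
    ∃ a ∈ M, ∃ b ∈ B.orthogonal M, a + b = x :=
  Submodule.mem_sup.1 (by rw [(h.isCompl hB).sup_eq_top]; trivial)

theorem supp_mem (hB : Sy B) {M : Submodule F V} {a : V ≃ₗ[F] V} (ha : a ∈ supp B M) {x : V}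
    (hx : x ∈ M) : a x ∈ M := by
  rw [← LinearMap.BilinForm.orthogonal_orthogonal hB.nd hB.refl M]
  intro y hy
  conv_lhs => rw [← ha.2 y hy]
  rw [ha.1]
  exact hB.refl _ _ (hy x hx)

theorem supp_commute (hB : Sy B) {M N : Submodule F V} (hM : Nd B M) (hMN : N ≤ B.orthogonal M)
    {a b : V ≃ₗ[F] V} (ha : a ∈ supp B M) (hb : b ∈ supp B N) : a * b = b * a := by
  ext x
  obtain ⟨u, hu, w, hw, rfl⟩ := hM.decomp hB x
  have h1 : ∀ u ∈ M, b u = u := fun u hu => hb.2 u (hB.orth_symm hMN hu)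
  have h2 : b w ∈ B.orthogonal M := fun y hy => by
    conv_lhs => rw [← h1 y hy]
    rw [hb.1]
    exact hw y hy
  simp only [LinearEquiv.mul_apply, map_add]
  rw [h1 u hu, ha.2 _ h2, ha.2 w hw, h1 _ (supp_mem hB ha hu)]

theorem Comm.sup (hB : Sy B) {g : V ≃ₗ[F] V} {M N : Submodule F V} (hM : Nd B M)
    (hMN : N ≤ B.orthogonal M) (h1 : Comm B g M) (h2 : Comm B g N) : Comm B g (M ⊔ N) := by
  obtain ⟨a, ha, b, hb, h1⟩ := h1
  obtain ⟨c, hc, d, hd, h2⟩ := h2
  have le1 : supp B M ≤ supp B (M ⊔ N) := fun e he =>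
    ⟨he.1, fun x hx => he.2 x (LinearMap.BilinForm.orthogonal_le le_sup_left hx)⟩
  have le2 : supp B N ≤ supp B (M ⊔ N) := fun e he =>
    ⟨he.1, fun x hx => he.2 x (LinearMap.BilinForm.orthogonal_le le_sup_right hx)⟩
  refine ⟨a * c, mul_mem (le1 ha) (le2 hc), b * d, mul_mem (le1 hb) (le2 hd), fun x hx => ?_⟩
  have k1 : a * b * a⁻¹ * b⁻¹ ∈ supp B M := mul_mem (mul_mem (mul_mem ha hb) (inv_mem ha)) (inv_mem hb)
  have k2 : c * d * c⁻¹ * d⁻¹ ∈ supp B N := mul_mem (mul_mem (mul_mem hc hd) (inv_mem hc)) (inv_mem hd)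
  have e : a * c * (b * d) * (a * c)⁻¹ * (b * d)⁻¹ = (a * b * a⁻¹ * b⁻¹) * (c * d * c⁻¹ * d⁻¹) := by
    have c1 := supp_commute hB hM hMN hb hc
    have c2 := supp_commute hB hM hMN (inv_mem ha) (mul_mem (mul_mem hc hd) (inv_mem hc))
    have c3 := supp_commute hB hM hMN (inv_mem hb) k2
    calc a * c * (b * d) * (a * c)⁻¹ * (b * d)⁻¹
        = a * (c * b) * d * c⁻¹ * a⁻¹ * d⁻¹ * b⁻¹ := by group
      _ = a * b * ((c * d * c⁻¹) * a⁻¹) * d⁻¹ * b⁻¹ := by rw [← c1]; group
      _ = a * b * a⁻¹ * ((c * d * c⁻¹ * d⁻¹) * b⁻¹) := by rw [← c2]; group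
      _ = _ := by rw [← c3]; group
  obtain ⟨u, hu, w, hw, rfl⟩ := Submodule.mem_sup.1 hx
  rw [e, LinearEquiv.mul_apply, map_add, map_add, k2.2 u (hB.orth_symm hMN hu), ← h2 w hw, map_add,
    ← h1 u hu, h2 w hw, k1.2 _ (hMN (supp_mem hB k2 hw))]

theorem finrank_orth_inf (hB : Sy B) {M W : Submodule F V} (hM : Nd B M) (hW : W ≤ M) :
    finrank F ↥(B.orthogonal W ⊓ M) + finrank F W = finrank F M := by
  have h1 : B.orthogonal (W ⊔ B.orthogonal M) = B.orthogonal W ⊓ M := by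
    rw [orth_sup, LinearMap.BilinForm.orthogonal_orthogonal hB.nd hB.refl]
  have h2 := LinearMap.BilinForm.finrank_orthogonal hB.nd (W ⊔ B.orthogonal M)
  have h3 := finrank_sup_add_finrank_inf_eq W (B.orthogonal M)
  rw [(hM.mono_left hW).eq_bot, finrank_bot] at h3
  have h4 := LinearMap.BilinForm.finrank_orthogonal hB.nd M
  have h5 := finrank_le M
  have h6 := finrank_le (W ⊔ B.orthogonal M)
  rw [h1] at h2
  omega

theorem Iso.two_mul_le (hB : Sy B) {M W : Submodule F V} (hM : Nd B M) (hW : W ≤ M)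
    (hI : Iso B W) : 2 * finrank F W ≤ finrank F M := by
  have h1 := finrank_orth_inf hB hM hW
  have h2 : W ≤ B.orthogonal W ⊓ M := le_inf (fun x hx y hy => hI y hy x hx) hW
  have h3 := Submodule.finrank_mono h2
  omega

theorem exists_compl (hB : Sy B) {M W : Submodule F V} (hM : Nd B M) (hW : W ≤ M) (hI : Iso B W)
    (hd : finrank F M = 2 * finrank F W) (n : ℕ) : ∀ Y : Submodule F V, Y ≤ M → Iso B Y →
      Disjoint W Y → finrank F Y + n = finrank F W →
      ∃ W', Y ≤ W' ∧ W' ≤ M ∧ Iso B W' ∧ Disjoint W W' ∧ finrank F W' = finrank F W := by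
  induction n with
  | zero => exact fun Y h1 h2 h3 h4 => ⟨Y, le_rfl, h1, h2, h3, h4⟩
  | succ n ih =>
    intro Y h1 h2 h3 h4
    have hne : ¬ B.orthogonal Y ⊓ M ≤ W ⊔ Y := by
      intro hle
      have a1 := finrank_orth_inf hB hM h1
      have a2 := finrank_orth_inf hB hM (sup_le hW h1)
      have a3 := finrank_sup_add_finrank_inf_eq W Y
      rw [h3.eq_bot, finrank_bot] at a3
      have a4 : B.orthogonal Y ⊓ M ≤ (B.orthogonal (W ⊔ Y) ⊓ M) ⊔ Y := by
        intro x hx
        obtain ⟨w, hw, y, hy, rfl⟩ := Submodule.mem_sup.1 (hle hx)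
        refine add_mem (mem_sup_left ⟨?_, hW hw⟩) (mem_sup_right hy)
        rw [orth_sup]
        refine ⟨fun z hz => hI z hz w hw, fun z hz => ?_⟩
        have := hx.1 z hz
        rwa [map_add, h2 z hz y hy, add_zero] at this
      have a5 := Submodule.finrank_mono a4
      have a6 := finrank_sup_add_finrank_inf_eq (B.orthogonal (W ⊔ Y) ⊓ M) Y
      omega
    obtain ⟨y, hy, hy'⟩ := SetLike.not_le_iff_exists.1 hne
    have hyY : y ∉ Y := fun h => hy' (mem_sup_right h)
    obtain ⟨W', b1, b2⟩ := ih (Y ⊔ span F {y}) (sup_le h1 ((span_singleton_le_iff_mem _ _).2 hy.2))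
      (by
        intro a ha b hb
        obtain ⟨a1, ha1, a2, ha2, rfl⟩ := Submodule.mem_sup.1 ha
        obtain ⟨b1, hb1, b2, hb2, rfl⟩ := Submodule.mem_sup.1 hb
        obtain ⟨s, rfl⟩ := mem_span_singleton.1 ha2
        obtain ⟨t, rfl⟩ := mem_span_singleton.1 hb2
        simp [h2 a1 ha1 b1 hb1, hy.1 a1 ha1, hB.refl _ _ (hy.1 b1 hb1), hB.alt y])
      (by
        rw [Submodule.disjoint_def]
        intro x hx hx'
        obtain ⟨a1, ha1, a2, ha2, rfl⟩ := Submodule.mem_sup.1 hx'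
        obtain ⟨s, rfl⟩ := mem_span_singleton.1 ha2
        by_cases hs : s = 0
        · subst hs
          rw [zero_smul, add_zero] at hx ⊢
          exact Submodule.disjoint_def.1 h3 _ hx ha1
        · exfalso
          apply hy'
          have : y = s⁻¹ • (a1 + s • y) - s⁻¹ • a1 := by
            rw [smul_add, smul_smul, inv_mul_cancel₀ hs, one_smul]; abel
          rw [this]
          exact sub_mem (mem_sup_left (smul_mem _ _ hx)) (mem_sup_right (smul_mem _ _ ha1)))
      (by rw [finrank_sup_span_singleton hyY]; omega)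
    exact ⟨W', le_sup_left.trans b1, b2⟩

theorem exists_compl' (hB : Sy B) {M W Y : Submodule F V} (hM : Nd B M) (hW : W ≤ M)
    (hI : Iso B W) (hd : finrank F M = 2 * finrank F W) (h1 : Y ≤ M) (h2 : Iso B Y)
    (h3 : Disjoint W Y) :
    ∃ W', Y ≤ W' ∧ W' ≤ M ∧ Iso B W' ∧ Disjoint W W' ∧ finrank F W' = finrank F W := by
  have := h2.two_mul_le hB hM h1
  exact exists_compl hB hM hW hI hd (finrank F W - finrank F Y) Y h1 h2 h3 (by omega)

section Coord

variable {l : Type*} [Fintype l] [DecidableEq l]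

theorem mem_sp_of_form {A : Matrix (l ⊕ l) (l ⊕ l) F}
    (h : ∀ x y, (A *ᵥ x) ⬝ᵥ (J l F *ᵥ (A *ᵥ y)) = x ⬝ᵥ (J l F *ᵥ y)) :
    A ∈ symplecticGroup l F := by
  rw [SymplecticGroup.mem_iff']
  ext i j
  have := h (Pi.single i 1) (Pi.single j 1)
  rw [mulVec_mulVec, dotProduct_mulVec, vecMul_mulVec, ← dotProduct_mulVec] at this
  simpa [mul_assoc] using this

theorem form_of_mem_sp {A : Matrix (l ⊕ l) (l ⊕ l) F} (h : A ∈ symplecticGroup l F) (x y) :
    (A *ᵥ x) ⬝ᵥ (J l F *ᵥ (A *ᵥ y)) = x ⬝ᵥ (J l F *ᵥ y) := by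
  rw [mulVec_mulVec, dotProduct_mulVec, vecMul_mulVec, ← dotProduct_mulVec, ← mul_assoc,
    SymplecticGroup.mem_iff'.1 h]

theorem exists_dual (hB : Sy B) {M W W' : Submodule F V} (hM : Nd B M) (hW : W ≤ M) (hW' : W' ≤ M)
    (hI' : Iso B W') (hd : finrank F M = 2 * finrank F W) (hdis : Disjoint W W')
    (hd' : finrank F W' = finrank F W) (e : Basis l F W) :
    ∃ e' : l → V, (∀ i, e' i ∈ W') ∧ ∀ i j, B (e' i) (e j) = if i = j then 1 else 0 := by
  have hsup : W ⊔ W' = M := by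
    refine Submodule.eq_of_le_of_finrank_le (sup_le hW hW') ?_
    have := finrank_sup_add_finrank_inf_eq W W'
    rw [hdis.eq_bot, finrank_bot] at this
    omega
  let ψ : W' →ₗ[F] (l → F) := LinearMap.pi fun j => (B.flip (e j)).comp W'.subtype
  have hψ : ∀ w j, ψ w j = B w (e j) := fun _ _ => rfl
  have hinj : Function.Injective ψ := by
    rw [← LinearMap.ker_eq_bot, LinearMap.ker_eq_bot']
    intro w hw
    apply Subtype.ext
    apply hM.eq_zero (hW' w.2)
    intro y hy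
    rw [← hsup] at hy
    obtain ⟨a, ha, b, hb, rfl⟩ := Submodule.mem_sup.1 hy
    have h1 : B w a = 0 := by
      have h2 : a = ∑ j, e.repr ⟨a, ha⟩ j • (e j : V) := by
        have := congrArg W.subtype (e.sum_repr ⟨a, ha⟩)
        rw [map_sum] at this
        exact this.symm
      rw [h2, map_sum]
      refine Finset.sum_eq_zero fun j _ => ?_
      rw [map_smul, ← hψ, hw]; simp
    rw [map_add, LinearMap.add_apply, hB.refl _ _ h1, hI' b hb w w.2, add_zero]
  have hsurj := (LinearMap.injective_iff_surjective_of_finrank_eq_finrank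
    (by rw [hd', finrank_eq_card_basis e, finrank_fintype_fun_eq_card])).1 hinj
  choose f hf using hsurj
  refine ⟨fun i => f (Pi.single i 1), fun i => (f _).2, fun i j => ?_⟩
  rw [← hψ, hf, Pi.single_apply]
  simp only [eq_comm]

theorem coord (hB : Sy B) {g : V ≃ₗ[F] V} (hg : g ∈ isom B) {M W W' : Submodule F V}
    (hM : Nd B M) (hinv : ∀ x ∈ M, g x ∈ M) (hW : W ≤ M) (hW' : W' ≤ M) (hI : Iso B W)
    (hI' : Iso B W') (hd : finrank F M = 2 * finrank F W) (hdis : Disjoint W W')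
    (hd' : finrank F W' = finrank F W) (e : Basis l F W) :
    ∃ G : symplecticGroup l F,
      (∀ N : Matrix l l F, (∀ j, g (e j) - ∑ i, N i j • (e i : V) ∈ W') → G.1.toBlocks₁₁ = N) ∧
      ((∀ x ∈ M, g x = -x) → G.1 = -1) ∧
      ((∃ x y : symplecticGroup l F, G = x * y * x⁻¹ * y⁻¹) → Comm B g M) := by
  obtain ⟨e', he', hee⟩ := exists_dual hB hM hW hW' hI' hd hdis hd' e
  let E : l ⊕ l → V := Sum.elim (fun i => (e i : V)) e'
  have hE : ∀ k k', B (E k) (E k') = J l F k k' := by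
    rintro (i | i) (j | j)
    · exact hI _ (e i).2 _ (e j).2
    · show B (e i) (e' j) = (-1 : Matrix l l F) i j
      rw [hB.neg, hee, Matrix.neg_apply, one_apply]
      simp only [eq_comm]
    · show B (e' i) (e j) = (1 : Matrix l l F) i j
      rw [hee, one_apply]
    · exact hI' _ (he' i) _ (he' j)
  let φ : (l ⊕ l → F) →ₗ[F] V := Fintype.linearCombination F E
  have hφ : ∀ x, φ x = ∑ k, x k • E k := fun x => Fintype.linearCombination_apply _ _ _
  have hφE : ∀ k, φ (Pi.single k 1) = E k := fun k => by simp [φ]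
  have hφM : ∀ x, φ x ∈ M := fun x => by
    rw [hφ]
    refine sum_mem fun k _ => smul_mem _ _ ?_
    rcases k with i | i
    · exact hW (e i).2
    · exact hW' (he' i)
  let π : V →ₗ[F] (l ⊕ l → F) := (toLin' (-J l F)).comp (LinearMap.pi fun k => B (E k))
  have hπ : ∀ v, π v = (-J l F) *ᵥ fun k => B (E k) v := fun _ => rfl
  have hBE : ∀ y, (fun k => B (E k) (φ y)) = J l F *ᵥ y := fun y => by
    ext k
    rw [hφ, map_sum, mulVec, dotProduct]
    refine Finset.sum_congr rfl fun k' _ => ?_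
    rw [map_smul, hE, smul_eq_mul, mul_comm]
  have hπφ : ∀ y, π (φ y) = y := fun y => by
    rw [hπ, hBE, mulVec_mulVec, Matrix.neg_mul, J_squared, neg_neg, one_mulVec]
  have hform : ∀ x y, B (φ x) (φ y) = x ⬝ᵥ (J l F *ᵥ y) := fun x y => by
    rw [← hBE, hφ x, map_sum, LinearMap.sum_apply, dotProduct]
    refine Finset.sum_congr rfl fun k _ => ?_
    rw [map_smul, LinearMap.smul_apply, smul_eq_mul]
  have hπ0 : ∀ v ∈ B.orthogonal M, π v = 0 := fun v hv => by
    rw [hπ]
    have : (fun k => B (E k) v) = 0 := funext fun k => hv _ (hφE k ▸ hφM _)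
    rw [this, mulVec_zero]
  have hinj : Function.Injective φ := Function.LeftInverse.injective hπφ
  have hrange : LinearMap.range φ = M := by
    refine Submodule.eq_of_le_of_finrank_le (by rintro _ ⟨x, rfl⟩; exact hφM x) ?_
    rw [LinearMap.finrank_range_of_inj hinj, finrank_fintype_fun_eq_card, Fintype.card_sum, hd,
      finrank_eq_card_basis e]
    omega
  have hφπ : ∀ v ∈ M, φ (π v) = v := fun v hv => by
    rw [← hrange] at hv
    obtain ⟨x, rfl⟩ := hv
    rw [hπφ]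
  let G : Matrix (l ⊕ l) (l ⊕ l) F := LinearMap.toMatrix' (π ∘ₗ (g : V →ₗ[F] V) ∘ₗ φ)
  have hG : ∀ x, G *ᵥ x = π (g (φ x)) := fun x => by
    rw [← toLin'_apply, toLin'_toMatrix']; rfl
  have hGφ : ∀ x, φ (G *ᵥ x) = g (φ x) := fun x => by rw [hG, hφπ _ (hinv _ (hφM x))]
  have hGm : G ∈ symplecticGroup l F := mem_sp_of_form fun x y => by
    rw [← hform, hGφ, hGφ, hg, hform]
  refine ⟨⟨G, hGm⟩, fun N hN => ?_, fun h => ?_, ?_⟩
  · ext i j
    have h1 : G (Sum.inl i) (Sum.inl j) = π (g (e j)) (Sum.inl i) := by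
      have := congrFun (hG (Pi.single (Sum.inl j) 1)) (Sum.inl i)
      rw [hφE] at this
      simpa [E] using this
    have h2 : ∀ v, π v (Sum.inl i) = B (e' i) v := fun v => by
      rw [hπ]
      simp [J, mulVec, dotProduct, Fintype.sum_sum_type, one_apply, E]
    have h3 := hI' _ (he' i) _ (hN j)
    rw [map_sub, map_sum, sub_eq_zero] at h3
    show G (Sum.inl i) (Sum.inl j) = N i j
    rw [h1, h2, h3, Finset.sum_eq_single i]
    · rw [map_smul, hee, if_pos rfl, smul_eq_mul, mul_one]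
    · intro k _ hk
      rw [map_smul, hee, if_neg hk.symm, smul_zero]
    · simp
  · apply toLin'.injective
    refine LinearMap.ext fun x => hinj ?_
    rw [toLin'_apply, toLin'_apply]
    show φ (G *ᵥ x) = _
    rw [hGφ, h _ (hφM x), neg_mulVec, one_mulVec, map_neg]
  · rintro ⟨x, y, hxy⟩
    let ex : Matrix (l ⊕ l) (l ⊕ l) F → V →ₗ[F] V := fun a =>
      LinearMap.id + φ ∘ₗ toLin' (a - 1) ∘ₗ π
    have ex1 : ∀ a u, ex a (φ u) = φ (a *ᵥ u) := fun a u => by
      simp [ex, hπφ, sub_mulVec]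
    have ex2 : ∀ a, ∀ v ∈ B.orthogonal M, ex a v = v := fun a v hv => by
      simp [ex, hπ0 v hv]
    have dec : ∀ v, ∃ u, ∃ w ∈ B.orthogonal M, v = φ u + w := fun v => by
      obtain ⟨a, ha, b, hb, rfl⟩ := hM.decomp hB v
      exact ⟨π a, b, hb, by rw [hφπ a ha]⟩
    have exi : ∀ a b : Matrix (l ⊕ l) (l ⊕ l) F, a * b = 1 → ex a ∘ₗ ex b = LinearMap.id := by
      intro a b hab
      refine LinearMap.ext fun v => ?_
      obtain ⟨u, w, hw, rfl⟩ := dec v
      rw [LinearMap.comp_apply, map_add, ex1, ex2 _ _ hw, map_add, ex1, ex2 _ _ hw, mulVec_mulVec,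
        hab, one_mulVec, LinearMap.id_apply]
    let eq : symplecticGroup l F → V ≃ₗ[F] V := fun a => LinearEquiv.ofLinear (ex a.1) (ex (a⁻¹).1)
      (exi _ _ (congrArg Subtype.val (mul_inv_cancel a)))
      (exi _ _ (congrArg Subtype.val (inv_mul_cancel a)))
    have eq1 : ∀ a u, eq a (φ u) = φ (a.1 *ᵥ u) := fun a u => ex1 _ _
    have eq2 : ∀ a u, (eq a)⁻¹ (φ u) = φ ((a⁻¹).1 *ᵥ u) := fun a u => ex1 _ _
    have eqs : ∀ a, eq a ∈ supp B M := fun a => by
      refine ⟨fun v v' => ?_, fun v hv => ex2 _ _ hv⟩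
      obtain ⟨u, w, hw, rfl⟩ := dec v
      obtain ⟨u', w', hw', rfl⟩ := dec v'
      have k1 : eq a w = w := ex2 _ _ hw
      have k2 : eq a w' = w' := ex2 _ _ hw'
      simp only [map_add, LinearMap.add_apply, eq1, k1, k2, hform, form_of_mem_sp a.2,
        hw' _ (hφM _), hB.refl _ _ (hw _ (hφM _))]
    refine ⟨eq x, eqs x, eq y, eqs y, fun v hv => ?_⟩
    rw [← hφπ v hv, ← hGφ]
    simp only [LinearEquiv.mul_apply, eq1, eq2, mulVec_mulVec]
    have := congrArg Subtype.val hxy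
    simp only [Submonoid.coe_mul] at this
    rw [this]
    simp only [mul_assoc]

end Coord

end CfsgLib.SpOre
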