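import Mathlib
import Cfsg.Agent.Lib.SpOre.Geo

/-!
Lagrangians `W` invariant under `g + g⁻¹` on which `g = ±1` on `W ∩ g⁻¹ W`; they make `g` a
commutator.
-/

set_option autoImplicit false

namespace CfsgLib.SpOre

open Matrix Module Submodule

variable {F : Type*} [Field F] {V : Type*} [AddCommGroup V] [Module F V]

/-- `W` is a Lagrangian of `M` on which `B (g x) y` is symmetric, and `g = η` on `W ∩ g⁻¹ W`. -/
structure Lag (B : LinearMap.BilinForm F V) (g : V ≃ₗ[F] V) (η : F) (M W : Submodule F V) :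
    Prop where
  le : W ≤ M
  iso : Iso B W
  sym : ∀ x ∈ W, ∀ y ∈ W, B (g x) y = B (g y) x
  dim : finrank F M = 2 * finrank F W
  fix : ∀ x ∈ W, g x ∈ W → g x = η • x

/-- non-degenerate invariant subspace -/
structure Inv (B : LinearMap.BilinForm F V) (g : V ≃ₗ[F] V) (M : Submodule F V) : Prop where
  nd : Nd B M
  inv : ∀ x ∈ M, g x ∈ M

variable {B : LinearMap.BilinForm F V} {g : V ≃ₗ[F] V}

theorem Inv.sup (hB : Sy B) {M N : Submodule F V} (hM : Inv B g M) (hN : Inv B g N)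
    (hMN : N ≤ B.orthogonal M) : Inv B g (M ⊔ N) :=
  ⟨hM.nd.sup hB hN.nd hMN, fun x hx => by
    obtain ⟨a, ha, b, hb, rfl⟩ := Submodule.mem_sup.1 hx
    rw [map_add]
    exact add_mem (mem_sup_left (hM.inv a ha)) (mem_sup_right (hN.inv b hb))⟩

theorem cross (hB : Sy B) (hg : g ∈ isom B) {η : F} {M W : Submodule F V} (h : Lag B g η M W)
    {x y : V} (hx : x ∈ W) (hy : y ∈ W) (a b : F) :
    B (g x - a • x) (g y - b • y) = (a - b) * B (g x) y := by
  simp only [map_sub, map_smul, LinearMap.sub_apply, LinearMap.smul_apply, smul_eq_mul]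
  rw [hg, h.iso x hx y hy, hB.neg x (g y), ← h.sym x hx y hy]
  ring

variable [FiniteDimensional F V]

theorem Lag.sup (hB : Sy B) {η : F} {M N W Z : Submodule F V} (hM : Inv B g M) (hN : Inv B g N)
    (hMN : N ≤ B.orthogonal M) (h1 : Lag B g η M W) (h2 : Lag B g η N Z) :
    Lag B g η (M ⊔ N) (W ⊔ Z) := by
  have hd := hM.nd.disjoint hMN
  have o1 : ∀ x ∈ M, ∀ y ∈ N, B x y = 0 := fun x hx y hy => hMN hy x hx
  have o2 : ∀ x ∈ M, ∀ y ∈ N, B y x = 0 := fun x hx y hy => hB.refl _ _ (o1 x hx y hy)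
  refine ⟨sup_le_sup h1.le h2.le, ?_, ?_, ?_, ?_⟩
  · intro x hx y hy
    obtain ⟨a, ha, b, hb, rfl⟩ := Submodule.mem_sup.1 hx
    obtain ⟨c, hc, d, hd, rfl⟩ := Submodule.mem_sup.1 hy
    simp [h1.iso a ha c hc, h2.iso b hb d hd, o1 a (h1.le ha) d (h2.le hd),
      o2 c (h1.le hc) b (h2.le hb)]
  · intro x hx y hy
    obtain ⟨a, ha, b, hb, rfl⟩ := Submodule.mem_sup.1 hx
    obtain ⟨c, hc, d, hd, rfl⟩ := Submodule.mem_sup.1 hy
    simp [h1.sym a ha c hc, h2.sym b hb d hd, o1 _ (hM.inv a (h1.le ha)) d (h2.le hd),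
      o2 c (h1.le hc) _ (hN.inv b (h2.le hb)), o1 _ (hM.inv c (h1.le hc)) b (h2.le hb),
      o2 a (h1.le ha) _ (hN.inv d (h2.le hd))]
  · have e1 := finrank_sup_add_finrank_inf_eq M N
    have e2 := finrank_sup_add_finrank_inf_eq W Z
    rw [hd.eq_bot, finrank_bot] at e1
    rw [(hd.mono h1.le h2.le).eq_bot, finrank_bot] at e2
    have := h1.dim
    have := h2.dim
    omega
  · intro x hx hgx
    obtain ⟨a, ha, b, hb, rfl⟩ := Submodule.mem_sup.1 hx
    obtain ⟨c, hc, d, hd', hcd⟩ := Submodule.mem_sup.1 hgx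
    rw [map_add] at hcd
    have k1 : g a - c = d - g b := by
      rw [sub_eq_sub_iff_add_eq_add, ← hcd, add_comm]
    have k2 : g a - c = 0 := Submodule.disjoint_def.1 hd _
      (sub_mem (hM.inv a (h1.le ha)) (h1.le hc))
      (by rw [k1]; exact sub_mem (h2.le hd') (hN.inv b (h2.le hb)))
    have k3 : g b = d := by rw [k2] at k1; exact (sub_eq_zero.1 k1.symm).symm
    rw [map_add, smul_add, h1.fix a ha (by rw [sub_eq_zero.1 k2]; exact hc),
      h2.fix b hb (by rw [k3]; exact hd')]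

theorem Lag.orth_le (hB : Sy B) {η : F} {M W : Submodule F V} (hM : Nd B M) (h : Lag B g η M W)
    {x : V} (hx : x ∈ M) (h0 : ∀ y ∈ W, B y x = 0) : x ∈ W := by
  have h1 := finrank_orth_inf hB hM h.le
  have h2 : W ≤ B.orthogonal W ⊓ M := le_inf (fun x hx y hy => h.iso y hy x hx) h.le
  have h3 := h.dim
  rw [Submodule.eq_of_le_of_finrank_le h2 (by omega)]
  exact ⟨h0, hx⟩

/-- a Lagrangian complement containing `(g - η) W` -/
theorem Lag.compl (hB : Sy B) (hg : g ∈ isom B) {η : F} (hη : η * η = 1) {M W : Submodule F V}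
    (hM : Inv B g M) (h : Lag B g η M W) :
    ∃ W', W' ≤ M ∧ Iso B W' ∧ Disjoint W W' ∧ finrank F W' = finrank F W ∧
      ∀ x ∈ W, g x - η • x ∈ W' := by
  obtain ⟨W', h1, h2, h3, h4, h5⟩ := exists_compl' hB (Y := W.map ((g : V →ₗ[F] V) - η • LinearMap.id))
    hM.nd h.le h.iso h.dim
    (by
      rintro _ ⟨x, hx, rfl⟩
      exact sub_mem (hM.inv x (h.le hx)) (smul_mem _ _ (h.le hx)))
    (by
      rintro _ ⟨x, hx, rfl⟩ _ ⟨y, hy, rfl⟩
      have := cross hB hg h hx hy η η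
      rwa [sub_self, zero_mul] at this)
    (by
      rw [Submodule.disjoint_def]
      rintro _ hz ⟨x, hx, rfl⟩
      have hz' : g x - η • x ∈ W := hz
      have : g x ∈ W := by simpa using add_mem hz' (smul_mem _ η hx)
      exact sub_eq_zero.2 (h.fix x hx this))
  exact ⟨W', h2, h3, h4, h5, fun x hx => h1 ⟨x, hx, rfl⟩⟩

theorem sum_scalar {l : Type*} [Fintype l] [DecidableEq l] (η : F) (e : l → V) (j : l) :
    ∑ i, (η • (1 : Matrix l l F)) i j • e i = η • e j := by
  rw [Finset.sum_eq_single j]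
  · simp
  · intro i _ hi
    simp [one_apply_ne hi]
  · simp

theorem Lag.comm_one (hB : Sy B) (hg : g ∈ isom B) {M W : Submodule F V} (hM : Inv B g M)
    (h : Lag B g 1 M W) (hp : GP F (finrank F W)) : Comm B g M := by
  obtain ⟨W', h1, h2, h3, h4, h5⟩ := h.compl hB hg (mul_one 1) hM
  obtain ⟨G, k1, -, k3⟩ := coord hB hg hM.nd hM.inv h.le h1 h.iso h2 h.dim h3 h4 (finBasis F W)
  obtain ⟨-, A, A', -, H, -⟩ := hp.companion
  refine k3 (comm_neg G H (mul_one 1) ?_)
  rw [one_mul, mul_one, H.mul, ← one_smul F (1 : Matrix _ _ F)]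
  exact k1 _ fun j => by rw [sum_scalar]; exact h5 _ (finBasis F W j).2

theorem Lag.comm_even (hB : Sy B) (hg : g ∈ isom B) (h2' : (2 : F) ≠ 0) {M W : Submodule F V}
    (hM : Inv B g M) (h : Lag B g (-1) M W) (hp : Even (finrank F W)) : Comm B g M := by
  obtain ⟨W', h1, h2, h3, h4, h5⟩ := h.compl hB hg (by simp) hM
  obtain ⟨k, hk⟩ := hp
  let e : Basis (Fin 2 × Fin k) F W := (finBasis F W).reindex
    (Fintype.equivOfCardEq (by simp; omega))
  obtain ⟨G, k1, -, k3⟩ := coord hB hg hM.nd hM.inv h.le h1 h.iso h2 h.dim h3 h4 e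
  obtain ⟨A, A', x, x', H, hx, hA⟩ := negOne_even h2' (Fin k)
  refine k3 (comm_pos G H hx ?_)
  rw [← hA, ← neg_one_smul F (1 : Matrix _ _ F)]
  exact k1 _ fun j => by rw [sum_scalar]; exact h5 _ (e j).2

theorem Lag.comm_neg_id [Finite F] (hB : Sy B) (hg : g ∈ isom B) {η : F} (hη : η * η = 1)
    {M W : Submodule F V} (hM : Inv B g M) (h : Lag B g η M W) (hn : ∀ x ∈ M, g x = -x) :
    Comm B g M := by
  obtain ⟨W', h1, h2, h3, h4, -⟩ := h.compl hB hg hη hM
  obtain ⟨G, -, k2, k3⟩ := coord hB hg hM.nd hM.inv h.le h1 h.iso h2 h.dim h3 h4 (finBasis F W)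
  exact k3 (comm_neg_one G (k2 hn))

theorem Lag.comm_odd (hB : Sy B) (hg : g ∈ isom B) (h2' : (2 : F) ≠ 0) {M W : Submodule F V}
    (hM : Inv B g M) (h : Lag B g (-1) M W) (hx : ∃ x ∈ W, g x ≠ (-1 : F) • x) {n : ℕ}
    (hn : Even n) (hd : finrank F W = n + 1) (hp : GP F (n + 1)) : Comm B g M := by
  obtain ⟨x, hx, hx'⟩ := hx
  -- an anisotropic vector for the symmetric form `B (g x) y` on `W`
  obtain ⟨z, hz, hzz⟩ : ∃ z ∈ W, B (g z) z ≠ 0 := by
    by_contra hcon
    push Not at hcon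
    apply hx'
    refine h.fix x hx (h.orth_le hB hM.nd (hM.inv x (h.le hx)) fun y hy => hB.refl _ _ ?_)
    have h1 := hcon (x + y) (add_mem hx hy)
    simp only [map_add, LinearMap.add_apply, hcon x hx, hcon y hy, h.sym y hy x hx] at h1
    have h3 : 2 * B (g x) y = 0 := by linear_combination h1
    simpa [h2'] using h3
  let H : Submodule F V := W ⊓ LinearMap.ker (B (g z))
  have hH : ∀ y, y ∈ H ↔ y ∈ W ∧ B (g z) y = 0 := fun y => Iff.rfl
  have hli : ∀ (c : F), ∀ y ∈ H, c • z + y = 0 → c = 0 := by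
    intro c y hy h0
    have := congrArg (B (g z)) h0
    rw [map_add, map_smul, ((hH y).1 hy).2, add_zero, map_zero, smul_eq_mul] at this
    exact (mul_eq_zero.1 this).resolve_right hzz
  have hsp : ∀ y ∈ W, ∃ c : F, y + c • z ∈ H := fun y hy =>
    ⟨-(B (g z) y / B (g z) z), (hH _).2 ⟨add_mem hy (smul_mem _ _ hz), by
      rw [map_add, map_smul, smul_eq_mul]; field_simp; ring⟩⟩
  have hdH : finrank F H = n := by
    have := finrank_eq_card_basis (Basis.mkFinSnocOfLE (finBasis F H) inf_le_left z hz hli hsp)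
    rw [Fintype.card_fin] at this
    omega
  let b : Basis (Fin n) F H := finBasisOfFinrankEq F H hdH
  let e : Basis (Fin (n + 1)) F W := Basis.mkFinSnocOfLE b inf_le_left z hz hli hsp
  have he1 : (e (Fin.last n) : V) = z := by
    simp [e, Basis.coe_mkFinSnocOfLE]
  have he2 : ∀ i : Fin n, (e i.castSucc : V) ∈ H := fun i => by
    simp only [e, Basis.coe_mkFinSnocOfLE, Fin.snoc_castSucc, Function.comp_apply, coe_inclusion]
    exact (b i).2
  let u : V →ₗ[F] V := (g : V →ₗ[F] V) - (-1 : F) • LinearMap.id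
  have hu : ∀ y, u y = g y - (-1 : F) • y := fun _ => rfl
  obtain ⟨W', h1, h2, h3, h4, h5⟩ := exists_compl' hB
    (Y := H.map u ⊔ span F {g z - (1 : F) • z}) hM.nd h.le h.iso h.dim
    (by
      refine sup_le ?_ ((span_singleton_le_iff_mem _ _).2
        (sub_mem (hM.inv z (h.le hz)) (smul_mem _ _ (h.le hz))))
      rintro _ ⟨y, hy, rfl⟩
      exact sub_mem (hM.inv y (h.le hy.1)) (smul_mem _ _ (h.le hy.1)))
    (by
      intro a ha b hb
      obtain ⟨_, ⟨a1, ha1, rfl⟩, a2, ha2, rfl⟩ := Submodule.mem_sup.1 ha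
      obtain ⟨_, ⟨b1, hb1, rfl⟩, b2, hb2, rfl⟩ := Submodule.mem_sup.1 hb
      obtain ⟨s, rfl⟩ := mem_span_singleton.1 ha2
      obtain ⟨t, rfl⟩ := mem_span_singleton.1 hb2
      have c1 := cross hB hg h ha1.1 hb1.1 (-1) (-1)
      have c2 := cross hB hg h ha1.1 hz (-1) 1
      have c3 := cross hB hg h hz hb1.1 1 (-1)
      rw [h.sym a1 ha1.1 z hz, ((hH a1).1 ha1).2, mul_zero] at c2
      rw [((hH b1).1 hb1).2, mul_zero] at c3
      rw [sub_self, zero_mul] at c1
      have c4 := hB.alt (g z - (1 : F) • z)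
      rw [hu, hu]
      generalize g a1 - (-1 : F) • a1 = p at *
      generalize g b1 - (-1 : F) • b1 = q at *
      generalize g z - (1 : F) • z = r at *
      simp [c1, c2, c3, c4])
    (by
      rw [Submodule.disjoint_def]
      intro a ha ha'
      obtain ⟨_, ⟨y, hy, rfl⟩, a2, ha2, rfl⟩ := Submodule.mem_sup.1 ha'
      obtain ⟨s, rfl⟩ := mem_span_singleton.1 ha2
      have hw : y + s • z ∈ W := add_mem hy.1 (smul_mem _ _ hz)
      have k1 : g (y + s • z) ∈ W := by
        have : g (y + s • z) = (u y + s • (g z - (1 : F) • z)) - y + s • z := by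
          rw [hu, map_add, map_smul]; module
        rw [this]
        exact add_mem (sub_mem ha hy.1) (smul_mem _ _ hz)
      have k2 : s = 0 := by
        have k3 := h.sym z hz _ hw
        rw [h.iso _ k1 z hz, map_add, map_smul, ((hH y).1 hy).2, zero_add, smul_eq_mul] at k3
        exact (mul_eq_zero.1 k3).resolve_right hzz
      subst k2
      rw [zero_smul, add_zero] at k1 ⊢
      rw [hu, sub_eq_zero]
      exact h.fix y hy.1 k1)
  obtain ⟨G, k1, -, k3⟩ := coord hB hg hM.nd hM.inv h.le h2 h.iso h3 h.dim h4 h5 e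
  obtain ⟨A, A', x, x', HA, hxx, hA⟩ := hp.negRefl h2' hn
  refine k3 (comm_neg G HA hxx ?_)
  rw [← hA]
  refine k1 _ fun j => ?_
  rw [Finset.sum_eq_single j]
  · rw [negRefl, diagonal_apply_eq]
    refine Fin.lastCases ?_ (fun i => ?_) j
    · rw [if_pos rfl, he1]
      exact h1 (mem_sup_right (mem_span_singleton_self _))
    · rw [if_neg (Fin.castSucc_lt_last i).ne]
      exact h1 (mem_sup_left ⟨_, he2 i, rfl⟩)
  · intro i _ hi
    rw [negRefl, diagonal_apply_ne _ hi, zero_smul]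
  · simp

end CfsgLib.SpOre
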