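import Mathlib
import Cfsg.Agent.Lib.SpOre.Piece

/-!
Cyclic subspaces for `τ = g + g⁻¹`; the primary part and the cyclic non-degenerate summands.
-/

set_option autoImplicit false

namespace CfsgLib.SpOre

open Module Submodule Polynomial

variable {F : Type*} [Field F] {V : Type*} [AddCommGroup V] [Module F V]

/-- the `F[A]`-submodule generated by `v` -/
noncomputable def cyc (A : End F V) (v : V) : Submodule F V :=
  LinearMap.range ((LinearMap.applyₗ v).comp (aeval A : F[X] →ₐ[F] End F V).toLinearMap)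

theorem mem_cyc {A : End F V} {v x : V} : x ∈ cyc A v ↔ ∃ p : F[X], aeval A p v = x := Iff.rfl

theorem self_mem_cyc (A : End F V) (v : V) : v ∈ cyc A v := ⟨1, by simp⟩

theorem aeval_mem {A : End F V} {U : Submodule F V} (h : ∀ x ∈ U, A x ∈ U) (p : F[X]) {x : V}
    (hx : x ∈ U) : aeval A p x ∈ U := by
  induction p using Polynomial.induction_on with
  | C a => simpa using smul_mem _ _ hx
  | add p q hp hq => simpa using add_mem hp hq
  | monomial n a ih =>
    have e : (C a * X ^ (n + 1) : F[X]) = X * (C a * X ^ n) := by ring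
    rw [e, map_mul, aeval_X, End.mul_apply]
    exact h _ ih

theorem cyc_le {A : End F V} {U : Submodule F V} (h : ∀ x ∈ U, A x ∈ U) {v : V} (hv : v ∈ U) :
    cyc A v ≤ U := by
  rintro _ ⟨p, rfl⟩
  exact aeval_mem h p hv

theorem cyc_inv {A : End F V} {v x : V} (hx : x ∈ cyc A v) : A x ∈ cyc A v := by
  obtain ⟨p, rfl⟩ := mem_cyc.1 hx
  exact mem_cyc.2 ⟨X * p, by rw [map_mul, aeval_X, End.mul_apply]⟩

theorem aeval_comm {A C : End F V} (h : ∀ x, C (A x) = A (C x)) (p : F[X]) (x : V) :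
    C (aeval A p x) = aeval A p (C x) := by
  induction p using Polynomial.induction_on generalizing x with
  | C a => simp
  | add p q hp hq => simp [hp, hq]
  | monomial n a ih =>
    have e : (Polynomial.C a * X ^ (n + 1) : F[X]) = X * (Polynomial.C a * X ^ n) := by ring
    rw [e, map_mul, aeval_X, End.mul_apply, End.mul_apply, h, ih]

theorem aeval_eq_divX (A : End F V) (p : F[X]) (x : V) :
    aeval A p x = p.coeff 0 • x + aeval A p.divX (A x) := by
  conv_lhs => rw [← divX_mul_X_add p]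
  simp [add_comm]

theorem aeval_mul_apply (A : End F V) (p q : F[X]) (x : V) :
    aeval A (p * q) x = aeval A p (aeval A q x) := by rw [map_mul, End.mul_apply]

/-- `τ = g + g⁻¹` -/
def tau (g : V ≃ₗ[F] V) : End F V := g.toLinearMap + g.symm.toLinearMap

theorem tau_apply (g : V ≃ₗ[F] V) (x : V) : tau g x = g x + g.symm x := rfl

theorem g_tau (g : V ≃ₗ[F] V) (x : V) : g (tau g x) = tau g (g x) := by
  simp [tau_apply]

theorem g_aeval (g : V ≃ₗ[F] V) (p : F[X]) (x : V) :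
    g (aeval (tau g) p x) = aeval (tau g) p (g x) :=
  aeval_comm (C := g.toLinearMap) (g_tau g) p x

variable {B : LinearMap.BilinForm F V} {g : V ≃ₗ[F] V}

theorem adj (hg : g ∈ isom B) (x y : V) : B (g.symm x) y = B x (g y) := by
  rw [← hg (g.symm x) y, LinearEquiv.apply_symm_apply]

theorem adj' (hg : g ∈ isom B) (x y : V) : B (g x) y = B x (g.symm y) := by
  rw [← hg x (g.symm y), LinearEquiv.apply_symm_apply]

theorem tau_adj (hg : g ∈ isom B) (x y : V) : B (tau g x) y = B x (tau g y) := by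
  rw [tau_apply, tau_apply, map_add, LinearMap.add_apply, map_add, adj hg, adj' hg, add_comm]

theorem aeval_adj {A : End F V} (h : ∀ x y, B (A x) y = B x (A y)) (p : F[X]) (x y : V) :
    B (aeval A p x) y = B x (aeval A p y) := by
  induction p using Polynomial.induction_on generalizing x y with
  | C a => simp
  | add p q hp hq => simp [hp, hq]
  | monomial n a ih =>
    have e : (C a * X ^ (n + 1) : F[X]) = X * (C a * X ^ n) := by ring
    have e' : (C a * X ^ (n + 1) : F[X]) = (C a * X ^ n) * X := by ring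
    conv_lhs => rw [e, map_mul, aeval_X, End.mul_apply, h, ih]
    conv_rhs => rw [e', map_mul, aeval_X, End.mul_apply]

theorem tau_pow_alt (hB : Sy B) (hg : g ∈ isom B) : ∀ (n : ℕ) (x : V), B ((tau g ^ n) x) x = 0
  | 0, x => by simpa using hB.alt x
  | 1, x => by
    rw [pow_one, tau_apply, map_add, LinearMap.add_apply, adj hg, hB.neg x]; simp
  | n + 2, x => by
    rw [pow_succ', pow_succ, End.mul_apply, End.mul_apply, tau_adj hg]
    exact tau_pow_alt hB hg n _

theorem aeval_alt (hB : Sy B) (hg : g ∈ isom B) (p : F[X]) (x : V) :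
    B (aeval (tau g) p x) x = 0 := by
  induction p using Polynomial.induction_on' with
  | add p q hp hq => simp [hp, hq]
  | monomial n a => simp [aeval_monomial, tau_pow_alt hB hg]

theorem iso_cyc (hB : Sy B) (hg : g ∈ isom B) (v : V) : Iso B (cyc (tau g) v) := by
  rintro _ ⟨p, rfl⟩ _ ⟨q, rfl⟩
  change B (aeval (tau g) p v) (aeval (tau g) q v) = 0
  rw [← aeval_adj (tau_adj hg), ← aeval_mul_apply, aeval_alt hB hg]

theorem sym_of_tau (hB : Sy B) (hg : g ∈ isom B) {W : Submodule F V} (hI : Iso B W)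
    (h : ∀ x ∈ W, tau g x ∈ W) : ∀ x ∈ W, ∀ y ∈ W, B (g x) y = B (g y) x := by
  intro x hx y hy
  have := hI _ (h x hx) y hy
  rw [tau_apply, map_add, LinearMap.add_apply, adj hg, hB.neg x] at this
  linear_combination this

/-- `W + g W` is `g`-invariant when `W` is `τ`-invariant -/
theorem sup_map_inv {W : Submodule F V} (h : ∀ x ∈ W, tau g x ∈ W) :
    ∀ x ∈ W ⊔ W.map g.toLinearMap, g x ∈ W ⊔ W.map g.toLinearMap := by
  intro x hx
  obtain ⟨a, ha, _, ⟨b, hb, rfl⟩, rfl⟩ := Submodule.mem_sup.1 hx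
  have : g (g.toLinearMap b) = g (tau g b) - b := by simp [tau_apply]
  rw [map_add, this]
  exact add_mem (mem_sup_right ⟨a, ha, rfl⟩)
    (sub_mem (mem_sup_right ⟨_, h b hb, rfl⟩) (mem_sup_left hb))

theorem ideal_lemma {ν s : F[X]} (hν : Prime ν) {j : ℕ} (h : ¬ ν ^ (j + 1) ∣ s) :
    ∃ a b, ν ^ j = a * s + b * ν ^ (j + 1) := by
  classical
  obtain ⟨i, hi, hassoc⟩ := (dvd_prime_pow hν (j + 1)).1 (EuclideanDomain.gcd_dvd_right s (ν ^ (j + 1)))
  have hij : i ≤ j := by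
    by_contra hlt
    have : i = j + 1 := by omega
    subst this
    exact h (hassoc.symm.dvd.trans (EuclideanDomain.gcd_dvd_left _ _))
  obtain ⟨c, hc⟩ := hassoc.dvd.trans (pow_dvd_pow ν hij)
  refine ⟨EuclideanDomain.gcdA s (ν ^ (j + 1)) * c, EuclideanDomain.gcdB s (ν ^ (j + 1)) * c, ?_⟩
  conv_lhs => rw [hc, EuclideanDomain.gcd_eq_gcd_ab]
  ring

variable [FiniteDimensional F V]

theorem symm_mem {U : Submodule F V} (h : ∀ x ∈ U, g x ∈ U) {x : V} (hx : x ∈ U) :
    g.symm x ∈ U := by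
  have h1 : U.map g.toLinearMap = U := Submodule.eq_of_le_of_finrank_le
    (by rintro _ ⟨y, hy, rfl⟩; exact h y hy) (LinearEquiv.finrank_map_eq g U).ge
  rw [← h1] at hx
  obtain ⟨y, hy, rfl⟩ := hx
  simpa using hy

theorem tau_mem {U : Submodule F V} (h : ∀ x ∈ U, g x ∈ U) {x : V} (hx : x ∈ U) :
    tau g x ∈ U := add_mem (h x hx) (symm_mem h hx)

theorem lag_of_sup (hB : Sy B) (hg : g ∈ isom B) {M W : Submodule F V} (hM : Nd B M) (hW : W ≤ M)
    (hI : Iso B W) (hτ : ∀ x ∈ W, tau g x ∈ W) (h : M ≤ W ⊔ W.map g.toLinearMap) (hne : M ≠ ⊥)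
    (η : F) : Lag B g η M W ∧ ∃ x ∈ W, g x ≠ η • x := by
  have h1 := hI.two_mul_le hB hM hW
  have h2 := Submodule.finrank_mono h
  have h3 := finrank_sup_add_finrank_inf_eq W (W.map g.toLinearMap)
  have h4 := LinearEquiv.finrank_map_eq g W
  have h5 : W ⊓ W.map g.toLinearMap = ⊥ := Submodule.finrank_eq_zero.1 (by omega)
  have key : ∀ x ∈ W, g x ∈ W → x = 0 := fun x hx hgx => by
    have : g x ∈ W ⊓ W.map g.toLinearMap := ⟨hgx, x, hx, rfl⟩
    rw [h5] at this
    simpa using this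
  refine ⟨⟨hW, hI, sym_of_tau hB hg hI hτ, by omega, fun x hx hgx => by simp [key x hx hgx]⟩, ?_⟩
  have hW0 : W ≠ ⊥ := by
    rintro rfl
    exact hne (by simpa using h)
  obtain ⟨x, hx, hx0⟩ := Submodule.exists_mem_ne_zero_of_ne_bot hW0
  exact ⟨x, hx, fun hh => hx0 (key x hx (by rw [hh]; exact smul_mem _ _ hx))⟩

theorem lag_of_sup' (hB : Sy B) (hg : g ∈ isom B) {M W : Submodule F V} (hM : Nd B M) (hW : W ≤ M)
    (hI : Iso B W) (hτ : ∀ x ∈ W, tau g x ∈ W) {η : F} (hη : η * η = 1) {y w : V} (hy : y ∈ W)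
    (hy0 : y ≠ 0) (hgy : g y = η • y) (h : M ≤ W ⊔ W.map g.toLinearMap ⊔ span F {w}) :
    Lag B g η M W := by
  have h1 := hI.two_mul_le hB hM hW
  have h2 := Submodule.finrank_mono h
  have h3 := finrank_sup_add_finrank_inf_eq W (W.map g.toLinearMap)
  have h4 := LinearEquiv.finrank_map_eq g W
  have h5 := finrank_sup_add_finrank_inf_eq (W ⊔ W.map g.toLinearMap) (span F {w})
  have h6 : finrank F (span F {w}) ≤ 1 := by simpa using finrank_span_le_card ({w} : Set V)
  have h7 : span F {y} ≤ W ⊓ W.map g.toLinearMap := by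
    rw [span_singleton_le_iff_mem]
    exact ⟨hy, η • y, smul_mem _ _ hy, by simp [hgy, smul_smul, hη]⟩
  have h8 := Submodule.finrank_mono h7
  rw [finrank_span_singleton hy0] at h8
  have h9 : span F {y} = W ⊓ W.map g.toLinearMap :=
    Submodule.eq_of_le_of_finrank_le h7 (by rw [finrank_span_singleton hy0]; omega)
  refine ⟨hW, hI, sym_of_tau hB hg hI hτ, by omega, fun x hx hgx => ?_⟩
  have : g x ∈ span F {y} := by rw [h9]; exact ⟨hgx, x, hx, rfl⟩
  obtain ⟨c, hc⟩ := mem_span_singleton.1 this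
  apply g.injective
  rw [map_smul, ← hc, map_smul, hgy, smul_comm]

/-- a non-degenerate invariant subspace on which a power of an irreducible polynomial in `τ`
vanishes -/
theorem exists_primary (hg : g ∈ isom B) {M₀ : Submodule F V} (hM : Inv B g M₀)
    (hne : M₀ ≠ ⊥) : ∃ M ≤ M₀, Inv B g M ∧ ∃ (ν : F[X]) (j : ℕ), Irreducible ν ∧
      (∀ x ∈ M, aeval (tau g) (ν ^ (j + 1)) x = 0) ∧ ∃ x ∈ M, aeval (tau g) (ν ^ j) x ≠ 0 := by
  classical
  have hex : ∃ d, ∃ μ : F[X], μ ≠ 0 ∧ μ.natDegree = d ∧ ∀ x ∈ M₀, aeval (tau g) μ x = 0 :=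
    ⟨_, minpoly F (tau g), minpoly.ne_zero_of_finite F _, rfl, fun x _ => by simp⟩
  obtain ⟨μ, hμ0, hμd, hμ⟩ := Nat.find_spec hex
  have hu : ¬ IsUnit μ := by
    intro hu
    obtain ⟨x, hx, hx0⟩ := Submodule.exists_mem_ne_zero_of_ne_bot hne
    obtain ⟨μ', h⟩ := hu.exists_left_inv
    apply hx0
    have := aeval_mul_apply (tau g) μ' μ x
    rw [h, hμ x hx] at this
    simpa using this
  obtain ⟨ν, hν, hdvd⟩ := WfDvdMonoid.exists_irreducible_factor hu hμ0
  obtain ⟨k, ρ, hρ, hk⟩ := WfDvdMonoid.max_power_factor hμ0 hν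
  obtain ⟨j, rfl⟩ : ∃ j, k = j + 1 := by
    rcases k with _ | j
    · exact absurd (by simpa [hk] using hdvd) hρ
    · exact ⟨j, rfl⟩
  have hcop : IsCoprime (ν ^ (j + 1)) ρ := (hν.coprime_iff_not_dvd.2 hρ).pow_left
  have hτ : ∀ x ∈ M₀, tau g x ∈ M₀ := fun x hx => tau_mem hM.inv hx
  have hρM : ∀ x ∈ M₀, aeval (tau g) ρ x ∈ M₀ ⊓ LinearMap.ker (aeval (tau g) (ν ^ (j + 1))) :=
    fun x hx => ⟨aeval_mem hτ ρ hx, by
      change aeval (tau g) (ν ^ (j + 1)) (aeval (tau g) ρ x) = 0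
      rw [← aeval_mul_apply, ← hk, hμ x hx]⟩
  refine ⟨M₀ ⊓ LinearMap.ker (aeval (tau g) (ν ^ (j + 1))), inf_le_left, ⟨?_, ?_⟩, ν, j, hν,
    fun x hx => hx.2, ?_⟩
  · rw [Nd, Submodule.disjoint_def]
    intro x hx h0
    have h1 : aeval (tau g) ρ x = 0 := hM.nd.eq_zero (aeval_mem hτ ρ hx.1) fun y hy => by
      rw [← aeval_adj (tau_adj hg)]
      exact h0 _ (hρM y hy)
    obtain ⟨a, b, hab⟩ := hcop
    have h2 : aeval (tau g) (ν ^ (j + 1)) x = 0 := hx.2
    have := congrArg (fun p => aeval (tau g) p x) hab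
    simp only [map_add, LinearMap.add_apply, aeval_mul_apply, h1, h2, map_zero, add_zero,
      map_one, End.one_apply] at this
    exact this.symm
  · intro x hx
    refine ⟨hM.inv x hx.1, ?_⟩
    change aeval (tau g) (ν ^ (j + 1)) (g x) = 0
    have h2 : aeval (tau g) (ν ^ (j + 1)) x = 0 := hx.2
    rw [← g_aeval, h2, map_zero]
  · by_contra hcon
    push Not at hcon
    have hρ0 : ρ ≠ 0 := by rintro rfl; exact hρ (dvd_zero _)
    have h0 : ν ^ j * ρ ≠ 0 := mul_ne_zero (pow_ne_zero _ hν.ne_zero) hρ0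
    refine Nat.find_min hex (m := (ν ^ j * ρ).natDegree) ?_ ⟨_, h0, rfl, fun x hx => ?_⟩
    · rw [← hμd, hk, pow_succ', mul_assoc, natDegree_mul hν.ne_zero h0]
      have := hν.natDegree_pos
      omega
    · rw [aeval_mul_apply]
      exact hcon _ (hρM x hx)

/-- the cyclic case -/
theorem cyclic_piece (hB : Sy B) (hg : g ∈ isom B) {M₁ : Submodule F V} (hM : Inv B g M₁)
    {ν : F[X]} {j : ℕ} (hν : Irreducible ν) (h0 : ∀ x ∈ M₁, aeval (tau g) (ν ^ (j + 1)) x = 0)
    {v : V} (hv : v ∈ M₁) {r : F[X]} (hr : B (aeval (tau g) (ν ^ j * r) (g v)) v ≠ 0) (η : F) :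
    ∃ M ≤ M₁, M ≠ ⊥ ∧ Inv B g M ∧ ∃ W, Lag B g η M W ∧ ∃ x ∈ W, g x ≠ η • x := by
  have hτ : ∀ x ∈ cyc (tau g) v, tau g x ∈ cyc (tau g) v := fun x hx => cyc_inv hx
  have hWM : cyc (tau g) v ≤ M₁ := cyc_le (fun x hx => tau_mem hM.inv hx) hv
  have key : ∀ s : F[X], (∀ t : F[X], B (aeval (tau g) (t * s) (g v)) v = 0) →
      ∀ x ∈ M₁, aeval (tau g) s x = 0 := by
    intro s hs x hx
    by_cases hd : ν ^ (j + 1) ∣ s
    · obtain ⟨c, rfl⟩ := hd
      rw [mul_comm, aeval_mul_apply, h0 x hx, map_zero]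
    · exfalso
      obtain ⟨a, b, hab⟩ := ideal_lemma hν.prime hd
      apply hr
      have e : ν ^ j * r = (r * a) * s + (r * b) * ν ^ (j + 1) := by rw [hab]; ring
      rw [e, map_add, LinearMap.add_apply, map_add, LinearMap.add_apply, hs, aeval_mul_apply,
        h0 _ (hM.inv v hv)]
      simp
  have hnd : Nd B (cyc (tau g) v ⊔ (cyc (tau g) v).map g.toLinearMap) := by
    rw [Nd, Submodule.disjoint_def]
    intro z hz hz0
    obtain ⟨_, ⟨p, rfl⟩, _, ⟨_, ⟨q, rfl⟩, rfl⟩, rfl⟩ := Submodule.mem_sup.1 hz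
    change aeval (tau g) p v + g (aeval (tau g) q v) = 0
    change aeval (tau g) p v + g (aeval (tau g) q v) ∈ B.orthogonal _ at hz0
    have h1 := key q (fun t => by
      have := hz0 (aeval (tau g) t v) (mem_sup_left (mem_cyc.2 ⟨t, rfl⟩))
      rw [map_add, iso_cyc hB hg v _ (mem_cyc.2 ⟨t, rfl⟩) _ (mem_cyc.2 ⟨p, rfl⟩), zero_add,
        g_aeval, aeval_adj (tau_adj hg), ← aeval_mul_apply] at this
      exact hB.refl _ _ this) v hv
    have h2 := key p (fun t => by
      have := hz0 (g (aeval (tau g) t v)) (mem_sup_right ⟨_, mem_cyc.2 ⟨t, rfl⟩, rfl⟩)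
      rw [h1, map_zero, add_zero, g_aeval, ← aeval_adj (tau_adj hg), ← aeval_mul_apply,
        mul_comm] at this
      exact this) v hv
    rw [h1, h2, map_zero, add_zero]
  have hne : cyc (tau g) v ⊔ (cyc (tau g) v).map g.toLinearMap ≠ ⊥ := by
    intro h
    have : v ∈ cyc (tau g) v ⊔ (cyc (tau g) v).map g.toLinearMap :=
      mem_sup_left (self_mem_cyc _ v)
    rw [h, mem_bot] at this
    exact hr (by simp [this])
  refine ⟨_, sup_le hWM ?_, hne, ⟨hnd, sup_map_inv hτ⟩, _,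
    lag_of_sup hB hg hnd le_sup_left (iso_cyc hB hg v) hτ le_rfl hne η⟩
  rintro _ ⟨x, hx, rfl⟩
  exact hM.inv x (hWM hx)

end CfsgLib.SpOre
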