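import Mathlib
import Cfsg.Agent.Lib.SpOre.Cyc

/-!
The summands generated by two vectors (eigenvalue `±1`), and the existence of a good summand.
-/

set_option autoImplicit false

namespace CfsgLib.SpOre

open Module Submodule Polynomial

variable {F : Type*} [Field F] {V : Type*} [AddCommGroup V] [Module F V]

theorem pow_comm' {A C : End F V} (h : ∀ x, C (A x) = A (C x)) (k : ℕ) (x : V) :
    C ((A ^ k) x) = (A ^ k) (C x) := by
  induction k generalizing x with
  | zero => simp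
  | succ k ih => rw [pow_succ, End.mul_apply, End.mul_apply, ih, h]

theorem pow_mem' {A : End F V} {U : Submodule F V} (h : ∀ x ∈ U, A x ∈ U) (k : ℕ) {x : V}
    (hx : x ∈ U) : (A ^ k) x ∈ U := by
  have := aeval_mem h (X ^ k) hx
  simpa using this

/-- parity: if `T = γ n²` with `γ` injective and `u` has even height for `n`, then no non-zero
vector of `F[T] u` is killed by `n`. -/
theorem parity {n T γ : End F V} (hγ : Function.Injective γ) (hT : ∀ x, T x = γ (n (n x)))
    (hc : ∀ x, γ (n x) = n (γ x)) (i : ℕ) : ∀ u : V, (n ^ (2 * i)) u = 0 →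
      (∀ m, m + 1 = 2 * i → (n ^ m) u ≠ 0) → ∀ x ∈ cyc T u, n x = 0 → x = 0 := by
  have hnT : ∀ x, n (T x) = T (n x) := fun x => by rw [hT, hT, ← hc]
  have hpow : ∀ k x, (n ^ k) (T x) = γ ((n ^ (k + 2)) x) := fun k x => by
    rw [hT, ← pow_comm' hc, pow_add, pow_two, End.mul_apply, End.mul_apply]
  induction i with
  | zero =>
    rintro u hu - _ ⟨p, rfl⟩ -
    have : u = 0 := by simpa using hu
    simp [this]
  | succ i ih =>
    intro u hu hu' x hx hnx
    obtain ⟨p, rfl⟩ := mem_cyc.1 hx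
    rw [aeval_eq_divX] at hnx ⊢
    have h1 : (n ^ (2 * i + 1)) (p.coeff 0 • u + aeval T p.divX (T u)) = 0 := by
      rw [pow_succ, End.mul_apply, hnx, map_zero]
    have h2 : (n ^ (2 * i + 1)) (T u) = 0 := by
      rw [hpow, show 2 * i + 1 + 2 = 1 + 2 * (i + 1) by ring, pow_add, End.mul_apply, hu]
      simp
    rw [map_add, map_smul, aeval_comm (C := n ^ (2 * i + 1))
      (fun x => (pow_comm' (fun y => (hnT y).symm) _ x).symm), h2, map_zero, add_zero] at h1
    have h3 : p.coeff 0 = 0 := (smul_eq_zero.1 h1).resolve_right (hu' _ (by ring))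
    rw [h3, zero_smul, zero_add] at hnx ⊢
    refine ih (T u) ?_ ?_ _ (mem_cyc.2 ⟨_, rfl⟩) hnx
    · rw [hpow, show 2 * i + 2 = 2 * (i + 1) by ring, hu, map_zero]
    · intro m hm h
      rw [hpow, map_eq_zero_iff _ hγ] at h
      exact hu' _ (by omega) h

variable {B : LinearMap.BilinForm F V} {g : V ≃ₗ[F] V}

theorem nd_pair {n n' : End F V} (hadj : ∀ x y, B x (n y) = B (n' x) y) {v w : V} {k : ℕ}
    (hn' : ∀ x ∈ cyc n v ⊔ cyc n w, n' x ∈ cyc n v ⊔ cyc n w)
    (hv : (n ^ (k + 1)) v = 0) (hw : (n ^ (k + 1)) w = 0)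
    (hvv : B v ((n ^ k) v) = 0) (hww : B w ((n ^ k) w) = 0)
    (hvw : B v ((n ^ k) w) ≠ 0) (hwv : B w ((n ^ k) v) ≠ 0) : Nd B (cyc n v ⊔ cyc n w) := by
  have hrad : ∀ (i : ℕ) z, z ∈ B.orthogonal (cyc n v ⊔ cyc n w) →
      (n ^ i) z ∈ B.orthogonal (cyc n v ⊔ cyc n w) := fun i z hz =>
    pow_mem' (fun x hx y hy => by rw [hadj]; exact hx _ (hn' y hy)) i hz
  have hcomm : ∀ (i : ℕ) (p : F[X]) x, (n ^ i) (aeval n p x) = aeval n p ((n ^ i) x) :=
    fun i p x => aeval_comm (fun y => (pow_comm' (fun _ => rfl) i y).symm) p x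
  have key : ∀ d i, i + d = k + 1 → ∀ p q : F[X],
      (n ^ i) (aeval n p v + aeval n q w) ∈ B.orthogonal (cyc n v ⊔ cyc n w) →
      (n ^ i) (aeval n p v + aeval n q w) = 0 := by
    intro d
    induction d with
    | zero =>
      rintro i rfl p q -
      rw [map_add, hcomm, hcomm, hv, hw]; simp
    | succ d ih =>
      intro i hi p q hz
      have h1 := hrad d _ hz
      have e : ∀ (p : F[X]) x, (n ^ (k + 1)) x = 0 → (n ^ k) (aeval n p x) = p.coeff 0 • (n ^ k) x := by
        intro p x hx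
        rw [aeval_eq_divX, map_add, map_smul, hcomm, ← End.mul_apply (n ^ k), ← pow_succ, hx,
          map_zero, add_zero]
      rw [← End.mul_apply, ← pow_add, show d + i = k by omega, map_add, e p v hv, e q w hw] at h1
      have h2 := h1 v (mem_sup_left (self_mem_cyc _ _))
      have h3 := h1 w (mem_sup_right (self_mem_cyc _ _))
      rw [map_add, map_smul, map_smul, hvv, smul_zero, zero_add, smul_eq_mul] at h2
      rw [map_add, map_smul, map_smul, hww, smul_zero, add_zero, smul_eq_mul] at h3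
      have hq := (mul_eq_zero.1 h2).resolve_right hvw
      have hp := (mul_eq_zero.1 h3).resolve_right hwv
      have e2 : (n ^ i) (aeval n p v + aeval n q w) =
          (n ^ (i + 1)) (aeval n p.divX v + aeval n q.divX w) := by
        rw [aeval_eq_divX n p, aeval_eq_divX n q, hp, hq, zero_smul, zero_smul, zero_add, zero_add,
          pow_succ, End.mul_apply, map_add n, aeval_comm (C := n) (fun _ => rfl),
          aeval_comm (C := n) (fun _ => rfl)]
      rw [e2] at hz ⊢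
      exact ih (i + 1) (by omega) _ _ hz
  rw [Nd, Submodule.disjoint_def]
  intro z hz hz0
  obtain ⟨_, ⟨p, rfl⟩, _, ⟨q, rfl⟩, rfl⟩ := Submodule.mem_sup.1 hz
  simpa using key (k + 1) 0 (by omega) p q (by simpa using hz0)

variable [FiniteDimensional F V]

theorem exists_dual_vec (hB : Sy B) {M U : Submodule F V} (hM : Nd B M) (hU : U ≤ M) {y : V}
    (hy : y ∈ M) (hyU : y ∉ U) : ∃ w ∈ M, (∀ u ∈ U, B u w = 0) ∧ B y w ≠ 0 := by
  rw [← LinearMap.BilinForm.orthogonal_orthogonal hB.nd hB.refl U] at hyU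
  by_contra hcon
  push Not at hcon
  apply hyU
  intro w hw
  obtain ⟨a, ha, b, hb, rfl⟩ := hM.decomp hB w
  apply hB.refl
  rw [map_add, hb y hy, add_zero]
  refine hcon a ha fun u hu => ?_
  have := hw u hu
  rwa [map_add, hb u (hU hu), add_zero] at this

theorem pair_piece (hB : Sy B) (hg : g ∈ isom B) {M₁ : Submodule F V} (hM : Inv B g M₁)
    {η : F} (hη : η * η = 1) {j : ℕ}
    (h0 : ∀ x ∈ M₁, ((tau g - (2 * η) • 1) ^ (j + 1)) x = 0)
    (h1 : ∃ x ∈ M₁, ((tau g - (2 * η) • 1) ^ j) x ≠ 0)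
    (h2 : ∀ x ∈ M₁, B (((tau g - (2 * η) • 1) ^ j) (g x)) x = 0) :
    ∃ M ≤ M₁, M ≠ ⊥ ∧ Inv B g M ∧ ∃ W, Lag B g η M W ∧
      ((∀ x ∈ M, g x = η • x) ∨ ∃ x ∈ W, g x ≠ η • x) := by
  set T : End F V := tau g - (2 * η) • 1 with hTdef
  let n : End F V := g.toLinearMap - η • 1
  let n' : End F V := g.symm.toLinearMap - η • 1
  have hn : ∀ x, n x = g x - η • x := fun _ => rfl
  have hn' : ∀ x, n' x = g.symm x - η • x := fun _ => rfl
  have hTa : ∀ x, T x = tau g x - (2 * η) • x := fun _ => rfl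
  have hT : ∀ x, T x = g.symm (n (n x)) := fun x => by
    simp only [hTa, hn, tau_apply, map_sub, map_smul, LinearEquiv.symm_apply_apply, smul_sub,
      smul_smul, hη, one_smul]
    module
  have hgn : ∀ x, g (n x) = n (g x) := fun x => by simp [hn]
  have hsn : ∀ x, g.symm (n x) = n (g.symm x) := fun x => by simp [hn]
  have hn'n : ∀ x, n' x = (-η) • g.symm (n x) := fun x => by
    simp only [hn, hn', map_sub, map_smul, LinearEquiv.symm_apply_apply, smul_sub, smul_smul,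
      neg_mul, hη]
    module
  have hgT : ∀ x, g (T x) = T (g x) := fun x => by rw [hT, hT, ← hgn, ← hgn]; simp
  have hnT : ∀ x, n (T x) = T (n x) := fun x => by rw [hT, hT, ← hsn]
  have hTp : ∀ (p : F[X]) x, aeval T p x = aeval (tau g) (p.comp (X - C (2 * η))) x := by
    intro p x
    rw [aeval_comp, map_sub, aeval_X, aeval_C, Algebra.algebraMap_eq_smul_one]
  have hcyc : ∀ u, cyc T u ≤ cyc (tau g) u := fun u => by
    rintro _ ⟨p, rfl⟩
    exact mem_cyc.2 ⟨_, (hTp p u).symm⟩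
  have hτT : ∀ u, ∀ x ∈ cyc T u, tau g x ∈ cyc T u := fun u x hx => by
    have : tau g x = T x + (2 * η) • x := by rw [hTa]; abel
    rw [this]
    exact add_mem (cyc_inv hx) (smul_mem _ _ hx)
  have hTadj : ∀ x y, B (T x) y = B x (T y) := fun x y => by
    simp [hTa, tau_adj hg]
  have hadj : ∀ x y, B x (n y) = B (n' x) y := fun x y => by
    simp [hn, hn', adj hg]
  have hTalt : ∀ (k : ℕ) x, B ((T ^ k) x) x = 0 := fun k x => by
    have := aeval_alt hB hg ((X ^ k : F[X]).comp (X - C (2 * η))) x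
    rwa [← hTp, map_pow, aeval_X] at this
  -- `n ^ (2 i) = g ^ i T ^ i`
  have hpow : ∀ (i : ℕ) x, (n ^ (2 * i)) x = (g.toLinearMap ^ i) ((T ^ i) x) := by
    intro i
    induction i with
    | zero => simp
    | succ i ih =>
      intro x
      have e : n (n x) = g (T x) := by rw [hT]; simp
      rw [mul_add, pow_add, End.mul_apply, mul_one, pow_two, End.mul_apply, e, ih, pow_succ,
        pow_succ, End.mul_apply, End.mul_apply, pow_comm' (C := g.toLinearMap) hgT]
      rfl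
  have hginj : ∀ (i : ℕ) y, (g.toLinearMap ^ i) y = 0 → y = 0 := by
    intro i
    induction i with
    | zero => simp
    | succ i ih =>
      intro y hy
      rw [pow_succ, End.mul_apply] at hy
      simpa using ih _ hy
  have heig : ∀ (i : ℕ) y, n y = 0 → (g.toLinearMap ^ i) y = η ^ i • y := by
    intro i y hy
    have hy' : g y = η • y := sub_eq_zero.1 hy
    induction i with
    | zero => simp
    | succ i ih =>
      rw [pow_succ', End.mul_apply, ih, map_smul, LinearEquiv.coe_coe, hy', smul_smul, pow_succ]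
  have hnM : ∀ x ∈ M₁, n x ∈ M₁ := fun x hx => sub_mem (hM.inv x hx) (smul_mem _ _ hx)
  have hTM : ∀ x ∈ M₁, T x ∈ M₁ := fun x hx => sub_mem (tau_mem hM.inv hx) (smul_mem _ _ hx)
  have hK : ∀ x ∈ M₁, (n ^ (2 * (j + 1))) x = 0 := fun x hx => by rw [hpow, h0 x hx, map_zero]
  -- common part: the subspace generated by `v`, `w`
  have common : ∀ (k : ℕ), (∀ x ∈ M₁, (n ^ (k + 1)) x = 0) → (∀ x ∈ M₁, B ((n ^ k) x) x = 0) →
      ∀ v ∈ M₁, ∀ w ∈ M₁, B ((n ^ k) v) w ≠ 0 →
      cyc n v ⊔ cyc n w ≤ M₁ ∧ cyc n v ⊔ cyc n w ≠ ⊥ ∧ Inv B g (cyc n v ⊔ cyc n w) := by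
    intro k hk hβ v hv w hw hvw
    have hinv : ∀ x ∈ cyc n v ⊔ cyc n w, g x ∈ cyc n v ⊔ cyc n w := by
      intro x hx
      obtain ⟨a, ha, b, hb, rfl⟩ := Submodule.mem_sup.1 hx
      have e : g (a + b) = (n a + η • a) + (n b + η • b) := by simp [hn]
      rw [e]
      exact add_mem (mem_sup_left (add_mem (cyc_inv ha) (smul_mem _ _ ha)))
        (mem_sup_right (add_mem (cyc_inv hb) (smul_mem _ _ hb)))
    refine ⟨sup_le (cyc_le hnM hv) (cyc_le hnM hw), fun h => ?_, ?_, hinv⟩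
    · have : w ∈ cyc n v ⊔ cyc n w := mem_sup_right (self_mem_cyc _ _)
      rw [h, mem_bot] at this
      exact hvw (by simp [this])
    · refine nd_pair hadj (fun x hx => sub_mem (symm_mem hinv hx) (smul_mem _ _ hx)) (hk v hv)
        (hk w hw) (hB.refl _ _ (hβ v hv)) (hB.refl _ _ (hβ w hw)) (fun h => hvw ?_)
        (fun h => hvw (hB.refl _ _ h))
      have := hβ (v + w) (add_mem hv hw)
      simp only [map_add, LinearMap.add_apply, hβ v hv, hβ w hw, hB.refl _ _ h] at this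
      simpa using this
  have hS : ∀ (u : V) (W : Submodule F V), u ∈ W → (∀ x ∈ W, tau g x ∈ W) →
      cyc n u ≤ W ⊔ W.map g.toLinearMap := fun u W hu hW =>
    cyc_le (fun x hx => sub_mem (sup_map_inv hW x hx) (smul_mem _ _ hx)) (mem_sup_left hu)
  have hcn : ∀ u, ∀ x ∈ cyc n u, T x ∈ cyc n u := fun u x hx => by
    rw [hT]
    refine symm_mem (fun y hy => ?_) (cyc_inv (cyc_inv hx))
    have e : g y = n y + η • y := by simp [hn]
    rw [e]
    exact add_mem (cyc_inv hy) (smul_mem _ _ hy)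
  have isoW : ∀ a b : V, (∀ u ∈ cyc T a, B u b = 0) → Iso B (cyc T a ⊔ cyc T b) := by
    intro a b hab
    have c : ∀ x ∈ cyc T a, ∀ y ∈ cyc T b, B x y = 0 := by
      intro x hx y hy
      obtain ⟨q, rfl⟩ := mem_cyc.1 hy
      rw [← aeval_adj hTadj]
      exact hab _ (aeval_mem (fun _ => cyc_inv) q hx)
    intro x hx y hy
    obtain ⟨x1, hx1, x2, hx2, rfl⟩ := Submodule.mem_sup.1 hx
    obtain ⟨y1, hy1, y2, hy2, rfl⟩ := Submodule.mem_sup.1 hy
    simp [iso_cyc hB hg a _ (hcyc a hx1) _ (hcyc a hy1), iso_cyc hB hg b _ (hcyc b hx2) _ (hcyc b hy2),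
      c _ hx1 _ hy2, hB.refl _ _ (c _ hy1 _ hx2)]
  have τW : ∀ a b : V, ∀ x ∈ cyc T a ⊔ cyc T b, tau g x ∈ cyc T a ⊔ cyc T b := by
    intro a b x hx
    obtain ⟨x1, hx1, x2, hx2, rfl⟩ := Submodule.mem_sup.1 hx
    rw [map_add]
    exact add_mem (mem_sup_left (hτT a _ hx1)) (mem_sup_right (hτT b _ hx2))
  have par := parity (n := n) (T := T) (γ := g.symm.toLinearMap) g.symm.injective hT hsn
  by_cases hev : ∃ v ∈ M₁, (n ^ (2 * j + 1)) v ≠ 0
  · obtain ⟨v, hv, hv0⟩ := hev
    have hβ : ∀ x ∈ M₁, B ((n ^ (2 * j + 1)) x) x = 0 := by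
      intro x hx
      have e : n ((T ^ j) (n x)) = 0 := by
        apply hginj j
        rw [pow_comm' hnT, ← hpow, ← End.mul_apply n n, ← End.mul_apply, ← pow_two, ← pow_add]
        exact hK x hx
      rw [pow_succ, End.mul_apply, hpow, heig j _ e, map_smul, LinearMap.smul_apply, hn, map_sub,
        map_smul, map_sub, LinearMap.sub_apply, h2 x hx, map_smul, LinearMap.smul_apply, hTalt]
      simp
    have hnot : (n ^ (2 * j + 1)) v ∉ cyc T v := fun h => hv0 (par (j + 1) v (hK v hv)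
      (fun m hm => by rwa [show m = 2 * j + 1 by omega]) _ h (by
        rw [← End.mul_apply, ← pow_succ']; exact hK v hv))
    obtain ⟨w, hw, hw1, hw2⟩ := exists_dual_vec hB hM.nd (cyc_le hTM hv) (pow_mem' hnM _ hv) hnot
    obtain ⟨c1, c2, c3⟩ := common (2 * j + 1) hK hβ v hv w hw hw2
    obtain ⟨l1, l2⟩ := lag_of_sup hB hg c3.nd (W := cyc T v ⊔ cyc T w)
      (sup_le_sup (cyc_le (hcn v) (self_mem_cyc _ _)) (cyc_le (hcn w) (self_mem_cyc _ _)))
      (isoW v w hw1) (τW v w)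
      (sup_le (hS v _ (mem_sup_left (self_mem_cyc _ _)) (τW v w))
        (hS w _ (mem_sup_right (self_mem_cyc _ _)) (τW v w))) c2 η
    exact ⟨_, c1, c2, c3, _, l1, Or.inr l2⟩
  · push Not at hev
    obtain ⟨v, hv, hv1⟩ := h1
    have hv0 : (n ^ (2 * j)) v ≠ 0 := fun h => hv1 (hginj j _ (by rw [← hpow, h]))
    have hnk : ∀ x ∈ M₁, n ((T ^ j) x) = 0 := fun x hx => by
      apply hginj j
      rw [pow_comm' hnT, ← hpow, ← End.mul_apply, ← pow_succ]
      exact hev x hx
    have hσ : ∀ x ∈ M₁, (n ^ (2 * j)) x = η ^ j • (T ^ j) x := fun x hx => by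
      rw [hpow, heig j _ (hnk x hx)]
    have hβ : ∀ x ∈ M₁, B ((n ^ (2 * j)) x) x = 0 := fun x hx => by
      rw [hσ x hx, map_smul, LinearMap.smul_apply, hTalt, smul_zero]
    have hη0 : η ≠ 0 := by rintro rfl; simp at hη
    have hpn' : ∀ (m : ℕ) x, (n ^ m) (n' x) = (-η) • g.symm ((n ^ (m + 1)) x) := fun m x => by
      rw [hn'n, map_smul, pow_succ, End.mul_apply]
      congr 1
      exact (pow_comm' (C := g.symm.toLinearMap) hsn m _).symm
    have hn'M : n' v ∈ M₁ := sub_mem (symm_mem hM.inv hv) (smul_mem _ _ hv)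
    have hnot : (n ^ (2 * j)) v ∉ cyc T (n' v) := fun h => hv0 (par j (n' v)
      (by rw [hpn', hev v hv]; simp)
      (fun m hm => by
        rw [hpn', hm]
        simpa [hη0] using hv0) _ h (by
        rw [← End.mul_apply, ← pow_succ']; exact hev v hv))
    obtain ⟨w, hw, hw1, hw2⟩ := exists_dual_vec hB hM.nd (cyc_le hTM hn'M) (pow_mem' hnM _ hv) hnot
    obtain ⟨c1, c2, c3⟩ := common (2 * j) hev hβ v hv w hw hw2
    have hiso : Iso B (cyc T v ⊔ cyc T (n w)) := isoW v (n w) fun u hu => by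
      obtain ⟨p, rfl⟩ := mem_cyc.1 hu
      rw [hadj, aeval_comm (C := n') (fun x => by
        rw [hn'n, hn'n, map_smul, hT, hT]; simp only [hsn]) p v]
      exact hw1 _ (mem_cyc.2 ⟨p, rfl⟩)
    have l1 := lag_of_sup' hB hg c3.nd (W := cyc T v ⊔ cyc T (n w))
      (sup_le_sup (cyc_le (hcn v) (self_mem_cyc _ _))
        (cyc_le (hcn w) (cyc_inv (self_mem_cyc _ _)))) hiso (τW v (n w)) hη
      (y := (T ^ j) v) (w := w) (mem_sup_left (pow_mem' (fun _ => cyc_inv) j (self_mem_cyc _ _)))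
      hv1 (sub_eq_zero.1 (hnk v hv))
      (sup_le ((hS v _ (mem_sup_left (self_mem_cyc _ _)) (τW v (n w))).trans le_sup_left) (by
        intro x hx
        obtain ⟨p, rfl⟩ := mem_cyc.1 hx
        rw [aeval_eq_divX]
        exact add_mem (mem_sup_right (smul_mem _ _ (mem_span_singleton_self w)))
          (mem_sup_left (hS (n w) _ (mem_sup_right (self_mem_cyc _ _)) (τW v (n w))
            (mem_cyc.2 ⟨_, rfl⟩)))))
    refine ⟨_, c1, c2, c3, _, l1, ?_⟩
    rcases j with _ | j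
    · exact Or.inl fun x hx => sub_eq_zero.1 (by rw [← hn]; simpa using hnk x (c1 hx))
    · refine Or.inr ⟨v, mem_sup_left (self_mem_cyc _ _), fun h => hv0 ?_⟩
      have : n v = 0 := sub_eq_zero.2 h
      rw [show 2 * (j + 1) = (2 * j + 1) + 1 by ring, pow_succ, End.mul_apply, this, map_zero]

/-- every non-zero non-degenerate invariant subspace contains a good summand -/
theorem exists_piece (hB : Sy B) (hg : g ∈ isom B) {M₀ : Submodule F V} (hM : Inv B g M₀)
    (hne : M₀ ≠ ⊥) : ∃ M ≤ M₀, M ≠ ⊥ ∧ Inv B g M ∧ ∃ η : F, η * η = 1 ∧ ∃ W, Lag B g η M W ∧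
      ((∀ x ∈ M, g x = η • x) ∨ ∃ x ∈ W, g x ≠ η • x) := by
  obtain ⟨M₁, hle, hM₁, ν, j, hν, h0, x₀, hx₀, hx₀'⟩ := exists_primary hg hM hne
  by_cases hc : ∃ v ∈ M₁, ∃ r : F[X], B (aeval (tau g) (ν ^ j * r) (g v)) v ≠ 0
  · obtain ⟨v, hv, r, hr⟩ := hc
    obtain ⟨M, a1, a2, a3, W, a4, a5⟩ := cyclic_piece hB hg hM₁ hν h0 hv hr 1
    exact ⟨M, a1.trans hle, a2, a3, 1, mul_one 1, W, a4, Or.inr a5⟩
  push Not at hc
  have hc1 : ∀ v ∈ M₁, B (aeval (tau g) (ν ^ j) (g v)) v = 0 := fun v hv => by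
    simpa using hc v hv 1
  have hτ : ∀ x ∈ M₁, tau g x ∈ M₁ := fun x hx => tau_mem hM₁.inv hx
  -- on `u = ν(τ)^j x₀` the map `g` is an involution
  set u := aeval (tau g) (ν ^ j) x₀ with hu
  have hgu : g u = g.symm u := by
    have e : g.symm u = aeval (tau g) (ν ^ j) (g.symm x₀) := by
      apply g.injective
      rw [g_aeval]; simp [hu]
    rw [← sub_eq_zero]
    refine hM₁.nd.eq_zero (sub_mem (hM₁.inv _ (aeval_mem hτ _ hx₀))
      (symm_mem hM₁.inv (aeval_mem hτ _ hx₀))) fun y hy => hB.refl _ _ ?_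
    have := hc1 (x₀ + y) (add_mem hx₀ hy)
    simp only [map_add, LinearMap.add_apply, hc1 x₀ hx₀, hc1 y hy, zero_add, add_zero] at this
    rw [map_sub, LinearMap.sub_apply, hu, g_aeval, adj hg, aeval_adj (tau_adj hg) _ x₀, hB.neg x₀]
    linear_combination this
  have h4 : aeval (tau g) ((X - C 2) * (X + C 2) : F[X]) u = 0 := by
    have e1 : tau g u = (2 : F) • g u := by rw [tau_apply, ← hgu, two_smul]
    have e2 : tau g (g u) = (2 : F) • u := by
      rw [tau_apply, LinearEquiv.symm_apply_apply, hgu, LinearEquiv.apply_symm_apply, two_smul]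
    simp only [map_mul, map_sub, map_add, aeval_X, aeval_C, End.mul_apply, LinearMap.sub_apply,
      LinearMap.add_apply, Module.algebraMap_end_apply, map_smul, e1, e2]
    module
  have hνu : aeval (tau g) ν u = 0 := by
    rw [hu, ← aeval_mul_apply, ← pow_succ']; exact h0 x₀ hx₀
  have hdvd : ν ∣ (X - C 2) * (X + C 2) := by
    by_contra hnd
    obtain ⟨a, b, hab⟩ := hν.coprime_iff_not_dvd.2 hnd
    have := congrArg (fun p => aeval (tau g) p u) hab
    simp only [map_add, LinearMap.add_apply, aeval_mul_apply _ a, aeval_mul_apply _ b, hνu, h4,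
      map_zero, add_zero, map_one, End.one_apply] at this
    exact hx₀' this.symm
  obtain ⟨η, hη, hd⟩ : ∃ η : F, η * η = 1 ∧ ν ∣ X - C (2 * η) := by
    rcases hν.prime.dvd_or_dvd hdvd with h | h
    · exact ⟨1, mul_one 1, by simpa using h⟩
    · exact ⟨-1, by simp, by simpa using h⟩
  obtain ⟨c, hc'⟩ := (hν.associated_of_dvd (irreducible_X_sub_C _) hd).symm
  obtain ⟨a, ha, hca⟩ := Polynomial.isUnit_iff.1 c.isUnit
  have hpw : ∀ (k : ℕ) x, aeval (tau g) (ν ^ k) x = a ^ k • ((tau g - (2 * η) • 1) ^ k) x := by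
    intro k x
    rw [← hc', ← hca, mul_comm, mul_pow, ← C_pow, map_mul, aeval_C, map_pow (aeval (tau g)), map_sub, aeval_X,
      aeval_C, Algebra.algebraMap_eq_smul_one, Algebra.algebraMap_eq_smul_one, smul_mul_assoc,
      one_mul, LinearMap.smul_apply]
  have ha0 : ∀ k : ℕ, a ^ k ≠ 0 := fun k => pow_ne_zero _ ha.ne_zero
  obtain ⟨M, a1, a2, a3, a4⟩ := pair_piece hB hg hM₁ hη (j := j)
    (fun x hx => by
      have := h0 x hx
      rw [hpw] at this
      exact (smul_eq_zero.1 this).resolve_left (ha0 _))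
    ⟨x₀, hx₀, fun h => hx₀' (by rw [hu, hpw, h, smul_zero])⟩
    (fun x hx => by
      have := hc1 x hx
      rw [hpw, map_smul, LinearMap.smul_apply] at this
      exact (smul_eq_zero.1 this).resolve_left (ha0 _))
  exact ⟨M, a1.trans hle, a2, a3, η, hη, a4⟩

end CfsgLib.SpOre
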