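import Mathlib
import Cfsg.Agent.Lib.SpOre.Pair

/-!
Every element of a finite symplectic group is a commutator (Ore), apart from the small cases.
-/

set_option autoImplicit false

namespace CfsgLib.SpOre

open Module Submodule

variable {F : Type*} [Field F] {V : Type*} [AddCommGroup V] [Module F V] [FiniteDimensional F V]
  {B : LinearMap.BilinForm F V} {g : V ≃ₗ[F] V}

theorem Inv.split (hB : Sy B) (hg : g ∈ isom B) {M₀ M : Submodule F V} (h₀ : Inv B g M₀)
    (h : Inv B g M) (hle : M ≤ M₀) : ∃ M', Inv B g M' ∧ M' ≤ B.orthogonal M ∧ M ⊔ M' = M₀ ∧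
      finrank F M' + finrank F M = finrank F M₀ := by
  have hsup : M ⊔ B.orthogonal M ⊓ M₀ = M₀ := by
    refine le_antisymm (sup_le hle inf_le_right) fun x hx => ?_
    obtain ⟨a, ha, b, hb, rfl⟩ := h.nd.decomp hB x
    exact add_mem (mem_sup_left ha) (mem_sup_right ⟨hb, by simpa using sub_mem hx (hle ha)⟩)
  refine ⟨B.orthogonal M ⊓ M₀, ⟨?_, fun x hx => ⟨fun y hy => ?_, h₀.inv x hx.2⟩⟩, inf_le_left, hsup,
    finrank_orth_inf hB h₀.nd hle⟩
  · rw [Nd, Submodule.disjoint_def]
    intro x hx h0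
    refine h₀.nd.eq_zero hx.2 fun y hy => ?_
    rw [← hsup] at hy
    obtain ⟨a, ha, b, hb, rfl⟩ := Submodule.mem_sup.1 hy
    rw [map_add, LinearMap.add_apply, hx.1 a ha, h0 b hb, add_zero]
  · rw [← adj hg]
    exact hx.1 _ (symm_mem h.inv hy)

theorem lag_char_two (hB : Sy B) (hg : g ∈ isom B) (h2 : (2 : F) = 0) (n : ℕ) :
    ∀ M₀ : Submodule F V, finrank F M₀ = n → Inv B g M₀ → ∃ W, Lag B g 1 M₀ W := by
  induction n using Nat.strong_induction_on with
  | _ n ih =>
    intro M₀ hn h₀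
    by_cases hne : M₀ = ⊥
    · subst hne
      exact ⟨⊥, le_rfl, by simp [Iso], by simp, by simp, by simp⟩
    obtain ⟨M, a1, a2, a3, η, hη, W, a4, -⟩ := exists_piece hB hg h₀ hne
    have hη1 : η = 1 := by
      rcases mul_self_eq_one_iff.1 hη with h | h
      · exact h
      · rw [h]; linear_combination -h2
    subst hη1
    obtain ⟨M', b1, b2, b3, b4⟩ := h₀.split hB hg a3 a1
    have := Submodule.one_le_finrank_iff.2 a2
    obtain ⟨W', c⟩ := ih (finrank F M') (by omega) M' rfl b1
    exact ⟨_, b3 ▸ a4.sup hB a3 b1 b2 c⟩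

/-- a Lagrangian on which `g` is not the scalar `η` -/
def Mov (B : LinearMap.BilinForm F V) (g : V ≃ₗ[F] V) (η : F) (M : Submodule F V) : Prop :=
  ∃ W, Lag B g η M W ∧ ∃ x ∈ W, g x ≠ η • x

/-- planes on which `g` is not a scalar -/
def Bad (B : LinearMap.BilinForm F V) (g : V ≃ₗ[F] V) (M : Submodule F V) : Prop :=
  finrank F M = 2 ∧ ∀ η : F, η * η = 1 → Mov B g η M

theorem Mov.comm (hB : Sy B) (hg : g ∈ isom B) (h2 : (2 : F) ≠ 0) {η : F} (hη : η * η = 1)
    {M : Submodule F V} (hM : Inv B g M) (h : Mov B g η M)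
    (hp : ∀ k, 2 * k = finrank F M → GP F k) : Comm B g M := by
  obtain ⟨W, h1, h3⟩ := h
  rcases mul_self_eq_one_iff.1 hη with rfl | rfl
  · exact h1.comm_one hB hg hM (hp _ h1.dim.symm)
  · rcases Nat.even_or_odd (finrank F W) with h | ⟨k, hk⟩
    · exact h1.comm_even hB hg h2 hM h
    · exact h1.comm_odd hB hg h2 hM h3 (n := 2 * k) (even_two_mul k) hk
        (hp _ (by rw [h1.dim, hk]))

theorem Mov.sup (hB : Sy B) {η : F} {M N W : Submodule F V} (hM : Inv B g M) (hN : Inv B g N)
    (hMN : N ≤ B.orthogonal M) (h1 : Lag B g η M W) (h2 : Mov B g η N) : Mov B g η (M ⊔ N) := by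
  obtain ⟨Z, a, x, hx, hx'⟩ := h2
  exact ⟨_, h1.sup hB hM hN hMN a, x, mem_sup_right hx, hx'⟩

theorem Mov.bad {η : F} {M : Submodule F V} (h : Mov B g η M) (hd : finrank F M = 2) :
    Bad B g M := by
  obtain ⟨W, h1, x, hx, hx'⟩ := h
  have hW : finrank F W = 1 := by have := h1.dim; omega
  have hx0 : x ≠ 0 := by rintro rfl; simp at hx'
  have hsp : span F {x} = W := Submodule.eq_of_le_of_finrank_le
    ((span_singleton_le_iff_mem _ _).2 hx) (by rw [finrank_span_singleton hx0, hW])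
  have hgx : g x ∉ W := fun h => hx' (h1.fix x hx h)
  refine ⟨hd, fun η' _ => ⟨W, ⟨h1.le, h1.iso, h1.sym, h1.dim, fun y hy hgy => ?_⟩, x, hx,
    fun h => hgx (by rw [h]; exact smul_mem _ _ hx)⟩⟩
  rw [← hsp] at hy
  obtain ⟨c, rfl⟩ := mem_span_singleton.1 hy
  by_cases hc : c = 0
  · simp [hc]
  · exfalso
    apply hgx
    have := smul_mem W c⁻¹ hgy
    rwa [map_smul, smul_smul, inv_mul_cancel₀ hc, one_smul] at this

theorem finrank_sup_orth {M N : Submodule F V} (hM : Nd B M) (hMN : N ≤ B.orthogonal M) :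
    finrank F ↥(M ⊔ N) = finrank F M + finrank F N := by
  have := finrank_sup_add_finrank_inf_eq M N
  rwa [(hM.disjoint hMN).eq_bot, finrank_bot, add_zero] at this

theorem comm_or_bad [Finite F] (hB : Sy B) (hg : g ∈ isom B) (h2 : (2 : F) ≠ 0)
    (hp : ∀ k, 2 ≤ k → GP F k) (n : ℕ) :
    ∀ M₀ : Submodule F V, finrank F M₀ = n → Inv B g M₀ → (Comm B g M₀ ∨ Bad B g M₀) ∧
      (M₀ ≠ ⊥ → ∀ N, Inv B g N → N ≤ B.orthogonal M₀ → Bad B g N → Comm B g (M₀ ⊔ N)) := by
  induction n using Nat.strong_induction_on with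
  | _ n ih =>
    intro M₀ hn h₀
    by_cases hne : M₀ = ⊥
    · subst hne
      exact ⟨Or.inl (Comm.of_id (by simp)), fun h => absurd rfl h⟩
    obtain ⟨M, a1, a2, a3, η, hη, W, a4, a5⟩ := exists_piece hB hg h₀ hne
    have hpos := Submodule.one_le_finrank_iff.2 a2
    have hdim := a4.dim
    -- the summand itself
    have p1 : Comm B g M ∨ Bad B g M := by
      rcases a5 with h | h
      · left
        rcases mul_self_eq_one_iff.1 hη with rfl | rfl
        · exact Comm.of_id (by simpa using h)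
        · exact a4.comm_neg_id hB hg hη a3 (by simpa using h)
      · by_cases hd : finrank F M = 2
        · exact Or.inr (Mov.bad ⟨W, a4, h⟩ hd)
        · exact Or.inl (Mov.comm hB hg h2 hη a3 ⟨W, a4, h⟩ fun k hk => hp k (by omega))
    -- the summand together with a bad plane
    have p2 : ∀ N, Inv B g N → N ≤ B.orthogonal M → Bad B g N → Comm B g (M ⊔ N) :=
      fun N hN hMN hb => Mov.comm hB hg h2 hη (a3.sup hB hN hMN)
        (Mov.sup hB a3 hN hMN a4 (hb.2 η hη)) fun k hk => hp k (by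
          rw [finrank_sup_orth a3.nd hMN, hb.1] at hk; omega)
    obtain ⟨M', b1, b2, b3, b4⟩ := h₀.split hB hg a3 a1
    obtain ⟨i1, i2⟩ := ih (finrank F M') (by omega) M' rfl b1
    by_cases hM' : M' = ⊥
    · subst hM'
      rw [sup_bot_eq] at b3
      subst b3
      exact ⟨p1, fun _ => p2⟩
    refine ⟨Or.inl ?_, fun _ N hN hMN hb => ?_⟩
    · rw [← b3]
      rcases i1 with i1 | i1
      · rcases p1 with p1 | p1
        · exact p1.sup hB a3.nd b2 i1
        · rw [sup_comm]
          exact i2 hM' M a3 (hB.orth_symm b2) p1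
      · exact p2 M' b1 b2 i1
    · subst b3
      rw [orth_sup, le_inf_iff] at hMN
      rcases p1 with p1 | p1
      · rw [sup_assoc]
        exact p1.sup hB a3.nd (sup_le b2 hMN.1) (i2 hM' N hN hMN.2 hb)
      · rcases i1 with i1 | i1
        · rw [sup_right_comm]
          refine (p2 N hN hMN.1 hb).sup hB (a3.sup hB hN hMN.1).nd ?_ i1
          rw [orth_sup]
          exact le_inf b2 (hB.orth_symm hMN.2)
        · have hMN' : N ≤ B.orthogonal (M ⊔ M') := by rw [orth_sup]; exact le_inf hMN.1 hMN.2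
          obtain ⟨Z, c1, -⟩ := Mov.sup hB a3 b1 b2 a4 (i1.2 η hη)
          refine Mov.comm hB hg h2 hη ((a3.sup hB b1 b2).sup hB hN hMN')
            (Mov.sup hB (a3.sup hB b1 b2) hN hMN' c1 (hb.2 η hη)) fun k hk => hp k ?_
          rw [finrank_sup_orth (a3.sup hB b1 b2).nd hMN', finrank_sup_orth a3.nd b2, hb.1] at hk
          omega

theorem exists_sq_ne_one [Fintype F] (h : 4 ≤ Fintype.card F) : ∃ a : F, a ≠ 0 ∧ a ^ 2 ≠ 1 := by
  classical
  by_contra hcon
  push Not at hcon
  have : (Finset.univ : Finset F) ⊆ {0, 1, -1} := fun a _ => by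
    by_cases ha : a = 0
    · simp [ha]
    · rcases mul_self_eq_one_iff.1 ((pow_two a).symm.trans (hcon a ha)) with h | h <;> simp [h]
  have h1 := Finset.card_le_card this
  have h3 : ({0, 1, -1} : Finset F).card ≤ 3 := Finset.card_le_three
  rw [Finset.card_univ] at h1
  omega

/-- Ore's property for symplectic spaces -/
theorem comm_top [Fintype F] (hB : Sy B) (hg : g ∈ isom B) {m : ℕ} (hm : finrank F V = 2 * m)
    (h0 : 1 ≤ m) (h1 : m = 1 → 4 ≤ Fintype.card F) (h2 : m = 2 → 3 ≤ Fintype.card F) :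
    Comm B g ⊤ := by
  have hI : Inv B g ⊤ := ⟨by
    rw [Nd, LinearMap.BilinForm.orthogonal_top_eq_bot hB.nd]; exact disjoint_bot_right,
    fun _ _ => trivial⟩
  have hc : 1 < Fintype.card F := Fintype.one_lt_card
  have big : 4 ≤ Fintype.card F → ∀ k, GP F k := fun h k => by
    obtain ⟨a, ha, ha'⟩ := exists_sq_ne_one h
    exact gp_big ha ha' k
  have hcard : (Fintype.card F : F) = 0 := FiniteField.cast_card_eq_zero F
  by_cases hch : (2 : F) = 0
  · obtain ⟨W, hW⟩ := lag_char_two hB hg hch _ ⊤ rfl hI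
    have hd := hW.dim
    rw [finrank_top] at hd
    refine hW.comm_one hB hg hI ?_
    by_cases h4 : 4 ≤ Fintype.card F
    · exact big h4 _
    · refine gp_char_two hch ?_
      have : Fintype.card F ≠ 3 := fun h => by
        rw [h] at hcard
        exact one_ne_zero (by push_cast at hcard; linear_combination hcard - hch : (1 : F) = 0)
      omega
  · have hne2 : Fintype.card F ≠ 2 := fun h => hch (by rw [h] at hcard; exact_mod_cast hcard)
    have hp : ∀ k, 2 ≤ k → GP F k := fun k hk => by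
      by_cases h4 : 4 ≤ Fintype.card F
      · exact big h4 _
      · have : Fintype.card F = 3 := by omega
        exact gp_char_three (by rw [this] at hcard; exact_mod_cast hcard) hk
    rcases (comm_or_bad hB hg hch hp _ ⊤ rfl hI).1 with h | h
    · exact h
    · have hd := h.1
      rw [finrank_top] at hd
      exact (h.2 1 (mul_one 1)).comm hB hg hch (mul_one 1) hI fun k _ => big (h1 (by omega)) k

end CfsgLib.SpOre
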